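import Mathlib.AlgebraicGeometry.Morphisms.Etale
import Mathlib.AlgebraicGeometry.Morphisms.FlatMono
import Mathlib.RingTheory.Etale.Basic
import Mathlib.RingTheory.FinitePresentation

/-!
# Monomorphisms lifting square-zero thickenings are open immersions
-/

set_option autoImplicit false
set_option linter.all false
set_option backward.isDefEq.respectTransparency false

universe u

open CategoryTheory CategoryTheory.Limits AlgebraicGeometry

namespace GrothLib.LinkExact10

/-- A monomorphism into a scheme of finite type over an affine base, of finite presentation over it,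
with lifting of square-zero thickenings, is an open immersion. -/
theorem isOpenImmersion_of_mono_lift {X X0 : Scheme.{u}} {R : CommRingCat.{u}} (i : X0 ⟶ X) [Mono i]
    (wX : X ⟶ Spec R) [LocallyOfFiniteType wX] [LocallyOfFinitePresentation (i ≫ wX)]
    (hlift : ∀ (C : Type u) [CommRing C] (I : Ideal C), I ^ 2 = ⊥ → ∀ (g : Spec (CommRingCat.of C) ⟶ X)
      (h0 : Spec (CommRingCat.of (C ⧸ I)) ⟶ X0),
        h0 ≫ i = Spec.map (CommRingCat.ofHom (Ideal.Quotient.mk I)) ≫ g → ∃ h, h ≫ i = g) :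
    IsOpenImmersion i := by
  suffices key : ∀ z : X0, ∃ O : X0.Opens, z ∈ O ∧ Etale (O.ι ≫ i) by
    choose O hO hOe using key
    haveI : Etale i := by
      refine (IsZariskiLocalAtSource.iff_of_openCover (P := @Etale)
        (Scheme.openCoverOfIsOpenCover X0 O ?_)).mpr hOe
      exact TopologicalSpace.IsOpenCover.mk (eq_top_iff.mpr fun z _ =>
        TopologicalSpace.Opens.mem_iSup.mpr ⟨z, hO z⟩)
    exact IsOpenImmersion.of_flat_of_mono i
  intro z
  obtain ⟨_, ⟨(W : X.Opens), hW, rfl⟩, hzW, -⟩ := X.isBasis_affineOpens.exists_subset_of_mem_open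
    (Set.mem_univ (i z)) isOpen_univ
  obtain ⟨_, ⟨(U : X0.Opens), hU, rfl⟩, hzU, hUW'⟩ := X0.isBasis_affineOpens.exists_subset_of_mem_open
    (show z ∈ i ⁻¹ᵁ W from hzW) (i ⁻¹ᵁ W).2
  have hUW : U ≤ i ⁻¹ᵁ W := hUW'
  have hU : IsAffineOpen U := hU
  have hW : IsAffineOpen W := hW
  letI : Algebra Γ(X, W) Γ(X0, U) := (i.appLE W U hUW).hom.toAlgebra
  letI : Algebra Γ(Spec R, ⊤) Γ(X, W) := (wX.appLE ⊤ W (le_top.trans le_rfl)).hom.toAlgebra
  letI : Algebra Γ(Spec R, ⊤) Γ(X0, U) := ((i ≫ wX).appLE ⊤ U (le_top.trans le_rfl)).hom.toAlgebra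
  haveI : IsScalarTower Γ(Spec R, ⊤) Γ(X, W) Γ(X0, U) := IsScalarTower.of_algebraMap_eq' (by
    simp only [RingHom.algebraMap_toAlgebra, ← CommRingCat.hom_comp, Scheme.Hom.appLE_comp_appLE]
    try rfl)
  haveI : Algebra.FiniteType Γ(Spec R, ⊤) Γ(X, W) :=
    LocallyOfFiniteType.finiteType_appLE (f := wX) (isAffineOpen_top _) hW _
  haveI : Algebra.FinitePresentation Γ(Spec R, ⊤) Γ(X0, U) :=
    (i ≫ wX).finitePresentation_appLE (isAffineOpen_top _) hU _
  haveI : Algebra.FinitePresentation Γ(X, W) Γ(X0, U) :=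
    Algebra.FinitePresentation.of_restrict_scalars_finitePresentation Γ(Spec R, ⊤) _ _
  have sq : hU.fromSpec ≫ i = Spec.map (CommRingCat.ofHom (algebraMap Γ(X, W) Γ(X0, U))) ≫ hW.fromSpec :=
    (hW.SpecMap_appLE_fromSpec i hU hUW).symm
  haveI : Algebra.FormallyEtale Γ(X, W) Γ(X0, U) := by
    rw [Algebra.FormallyEtale.iff_comp_bijective]
    intro C _ _ I hI
    refine ⟨fun ψ₁ ψ₂ _ => AlgHom.coe_ringHom_injective ?_, fun χ => ?_⟩
    · have key : ∀ ψ : Γ(X0, U) →ₐ[Γ(X, W)] C, Spec.map (CommRingCat.ofHom ψ.toRingHom) ≫ hU.fromSpec ≫ i =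
          Spec.map (CommRingCat.ofHom (algebraMap Γ(X, W) C)) ≫ hW.fromSpec := fun ψ => by
        rw [sq, ← Category.assoc, ← Spec.map_comp, ← CommRingCat.ofHom_comp,
          show ψ.toRingHom.comp (algebraMap Γ(X, W) Γ(X0, U)) = algebraMap Γ(X, W) C from ψ.comp_algebraMap]
      exact congrArg CommRingCat.Hom.hom (Spec.map_injective
        ((cancel_mono (hU.fromSpec ≫ i)).mp ((key ψ₁).trans (key ψ₂).symm)))
    · let qI : Spec (CommRingCat.of (C ⧸ I)) ⟶ Spec (CommRingCat.of C) :=
        Spec.map (CommRingCat.ofHom (Ideal.Quotient.mk I))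
      have hsurj : Function.Surjective qI := fun p => by
        have : (p : PrimeSpectrum C) ∈ Set.range (PrimeSpectrum.comap (Ideal.Quotient.mk I)) := by
          rw [range_comap_of_surjective _ _ Ideal.Quotient.mk_surjective, Ideal.mk_ker]
          intro a ha
          have h2 : a ^ 2 = 0 := by
            have := Ideal.pow_mem_pow ha 2
            rwa [hI, Ideal.mem_bot] at this
          exact (p : PrimeSpectrum C).2.mem_of_pow_mem 2 (h2 ▸ zero_mem _)
        exact this
      let gR : Spec (CommRingCat.of C) ⟶ X := Spec.map (CommRingCat.ofHom (algebraMap Γ(X, W) C)) ≫ hW.fromSpec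
      let χ' := Spec.map (CommRingCat.ofHom χ.toRingHom) ≫ hU.fromSpec
      have hχ : χ' ≫ i = qI ≫ gR := by
        simp only [gR, qI, χ']
        rw [Category.assoc, sq, ← Category.assoc, ← Category.assoc, ← Spec.map_comp, ← Spec.map_comp,
          ← CommRingCat.ofHom_comp, ← CommRingCat.ofHom_comp,
          show χ.toRingHom.comp (algebraMap Γ(X, W) Γ(X0, U)) = algebraMap Γ(X, W) (C ⧸ I) from χ.comp_algebraMap]
        rfl
      obtain ⟨y, hy⟩ := hlift C I hI gR χ' hχ
      have hqy : qI ≫ y = χ' := by rw [← cancel_mono i, Category.assoc, hy, hχ]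
      obtain ⟨y', hy'⟩ : ∃ y', y' ≫ hU.fromSpec = y := by
        refine ⟨IsOpenImmersion.lift hU.fromSpec y ?_, IsOpenImmersion.lift_fac _ _ _⟩
        rintro _ ⟨p, rfl⟩
        obtain ⟨p, rfl⟩ := hsurj p
        rw [← Scheme.Hom.comp_apply, hqy]
        exact ⟨_, rfl⟩
      obtain ⟨ψ, hψ⟩ := Spec.map_surjective y'
      have hψB : ψ.hom.comp (algebraMap Γ(X, W) Γ(X0, U)) = algebraMap Γ(X, W) C := by
        have h1 : Spec.map ψ ≫ Spec.map (CommRingCat.ofHom (algebraMap Γ(X, W) Γ(X0, U))) =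
            Spec.map (CommRingCat.ofHom (algebraMap Γ(X, W) C)) := by
          rw [← cancel_mono hW.fromSpec, Category.assoc, ← sq, hψ, ← Category.assoc, hy', hy]
        rw [← Spec.map_comp] at h1
        exact congrArg CommRingCat.Hom.hom (Spec.map_injective h1)
      refine ⟨{ ψ.hom with commutes' := fun b => congr($hψB b) }, AlgHom.coe_ringHom_injective ?_⟩
      have h2 : qI ≫ Spec.map ψ = Spec.map (CommRingCat.ofHom χ.toRingHom) := by
        rw [← cancel_mono hU.fromSpec, Category.assoc, hψ, hy', hqy]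
      rw [← Spec.map_comp] at h2
      exact congrArg CommRingCat.Hom.hom (Spec.map_injective h2)
  haveI : Algebra.Etale Γ(X, W) Γ(X0, U) := ⟨inferInstance, inferInstance⟩
  haveI : Etale (Spec.map (CommRingCat.ofHom (algebraMap Γ(X, W) Γ(X0, U)))) :=
    (HasRingHomProperty.Spec_iff (P := @Etale)).mpr (RingHom.etale_algebraMap.mpr inferInstance)
  refine ⟨U, hzU, ?_⟩
  have he : U.ι ≫ i = hU.isoSpec.hom ≫ Spec.map (CommRingCat.ofHom (algebraMap Γ(X, W) Γ(X0, U))) ≫ hW.fromSpec := by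
    rw [← sq, ← Category.assoc, hU.isoSpec_hom_fromSpec]
  rw [he]
  infer_instance

end GrothLib.LinkExact10
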