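import Groth.Agent.Lib.LinkExact10.Coord
import Groth.Agent.Lib.LinkExact10.OpenImm
import Groth.Agent.Lib.Grass26.Rep

/-!
# Charts of the exact locus
-/

set_option autoImplicit false
set_option linter.all false
set_option backward.isDefEq.respectTransparency false

universe u

noncomputable section

open CategoryTheory AlgebraicGeometry TensorProduct Submodule

namespace GrothLib.LinkExact10

open GrothLib.Grass26

variable {R : Type u} [CommRing R] {d r n : ℕ}

/-- The discrete data of a chart. -/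
structure Idx (d r n : ℕ) where
  /-- Positions. -/
  p : Fin r → Fin (n + 1)
  /-- Coordinate complements. -/
  J : Fin (n + 1) → Fin (d - r) → Fin d
  /-- Leading coordinates. -/
  b : Fin r → Fin d

variable {A B : Type u} [CommRing A] [CommRing B] [Algebra R A] [Algebra R B]

/-- The frame vectors of a chart. -/
def gvec (ι : Idx d r n) (c : Fin r → Fin (d - r) → A) (l : Fin r) : Fin d → A :=
  Pi.single (ι.b l) 1 + ∑ a, c l a • (Pi.single (ι.J (ι.p l) a) 1 : Fin d → A)

variable (f g : Fin n → ((Fin d → R) →ₗ[R] (Fin d → R))) (s : R)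

/-- Their transports. -/
def zvec (ι : Idx d r n) (c : Fin r → Fin (d - r) → A) (j : ℕ) (l : Fin r) : Fin d → A :=
  op A (tp (Fm f) (Gm g s) (ι.p l).1 j) (gvec ι c l)

/-- The parameters at which the transports complete the coordinate complements. -/
def Good (ι : Idx d r n) (c : Fin r → Fin (d - r) → A) : Prop :=
  ∀ j : Fin (n + 1), cspan A (ι.J j) ⊔ span A (Set.range (zvec f g s ι c j.1)) = ⊤

/-- The tuple has these parameters. -/
def Mem (ι : Idx d r n) (c : Fin r → Fin (d - r) → A)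
    (V : Fin (n + 1) → Module.Grassmannian A (A ⊗[R] (Fin d → R)) (d - r)) : Prop :=
  ∀ j : Fin (n + 1), sub (V j) = span A (Set.range (zvec f g s ι c j.1))

/-- The product of the determinants. -/
def Dprod (hrd : r ≤ d) (ι : Idx d r n) (c : Fin r → Fin (d - r) → A) : A :=
  ∏ j : Fin (n + 1), (colMat hrd (ι.J j) (zvec f g s ι c j.1)).det

variable {f g s}

theorem good_iff (hrd : r ≤ d) {ι : Idx d r n} {c : Fin r → Fin (d - r) → A} :
    Good f g s ι c ↔ IsUnit (Dprod f g s hrd ι c) := by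
  rw [Dprod, IsUnit.prod_iff]
  simp [Good, isUnit_det_iff]

theorem comp_gvec (φ : A →ₐ[R] B) (ι : Idx d r n) (c : Fin r → Fin (d - r) → A) (l : Fin r) :
    (φ ∘ gvec ι c l : Fin d → B) = gvec ι (fun l a => φ (c l a)) l := by
  funext x
  simp only [gvec, Function.comp_apply, Pi.add_apply, map_add, Finset.sum_apply, map_sum, Pi.smul_apply,
    smul_eq_mul, map_mul]
  congr 1
  · exact congrFun (comp_single φ _) x
  · exact Finset.sum_congr rfl fun a _ => congrArg _ (congrFun (comp_single φ _) x)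

theorem comp_zvec (φ : A →ₐ[R] B) (ι : Idx d r n) (c : Fin r → Fin (d - r) → A) (j : ℕ) (l : Fin r) :
    (φ ∘ zvec f g s ι c j l : Fin d → B) = zvec f g s ι (fun l a => φ (c l a)) j l := by
  rw [zvec, op_comp, comp_gvec]
  rfl

theorem comp_Dprod (φ : A →ₐ[R] B) (hrd : r ≤ d) (ι : Idx d r n) (c : Fin r → Fin (d - r) → A) :
    φ (Dprod f g s hrd ι c) = Dprod f g s hrd ι (fun l a => φ (c l a)) := by
  rw [Dprod, Dprod, map_prod]
  refine Finset.prod_congr rfl fun j _ => ?_
  rw [colMat_map]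
  simp only [comp_zvec]

theorem Mem.map (φ : A →ₐ[R] B) {ι : Idx d r n} {c : Fin r → Fin (d - r) → A}
    {V : Fin (n + 1) → Module.Grassmannian A (A ⊗[R] (Fin d → R)) (d - r)} (h : Mem f g s ι c V) :
    Mem f g s ι (fun l a => φ (c l a)) (fun i => Module.Grassmannian.map φ (V i)) := fun j => by
  show sub (Module.Grassmannian.map φ (V j)) = _
  rw [sub_map_span φ _ _ (h j)]
  simp only [comp_zvec]

theorem Mem.eq {ι : Idx d r n} {c : Fin r → Fin (d - r) → A}
    {V V' : Fin (n + 1) → Module.Grassmannian A (A ⊗[R] (Fin d → R)) (d - r)}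
    (h : Mem f g s ι c V) (h' : Mem f g s ι c V') : V = V' :=
  funext fun j => sub_injective ((h j).trans (h' j).symm)

theorem gvec_eq_zvec (ι : Idx d r n) (c : Fin r → Fin (d - r) → A) (l : Fin r) :
    zvec f g s ι c (ι.p l).1 l = gvec ι c l := by
  rw [zvec, tp_self, map_one]; rfl

theorem sum_smul_mem_cspan {m : ℕ} (J : Fin m → Fin d) (c : Fin m → A) :
    ∑ a, c a • (Pi.single (J a) 1 : Fin d → A) ∈ cspan A J :=
  sum_mem fun a _ => smul_mem _ _ (subset_span ⟨a, rfl⟩)

theorem gvec_unique (hrd : r ≤ d) (ι : Idx d r n) {c c' : Fin r → Fin (d - r) → A} {l : Fin r}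
    (N : Module.Grassmannian A (A ⊗[R] (Fin d → R)) (d - r)) (hN : cspan A (ι.J (ι.p l)) ⊔ sub N = ⊤)
    (h : gvec ι c l ∈ sub N) (h' : gvec ι c' l ∈ sub N) : gvec ι c l = gvec ι c' l := by
  refine sub_eq_zero.1 (Submodule.disjoint_def.1 (disjoint_of_sup_eq_top N _ hN) _ ?_ (sub_mem h h'))
  rw [gvec, gvec, add_sub_add_left_eq_sub]
  exact sub_mem (sum_smul_mem_cspan _ _) (sum_smul_mem_cspan _ _)

theorem Mem.unique (hrd : r ≤ d) {ι : Idx d r n} {c c' : Fin r → Fin (d - r) → A}
    {V : Fin (n + 1) → Module.Grassmannian A (A ⊗[R] (Fin d → R)) (d - r)} (hc : Good f g s ι c)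
    (h : Mem f g s ι c V) (h' : Mem f g s ι c' V) : c = c' := by
  funext l a
  have hN : cspan A (ι.J (ι.p l)) ⊔ sub (V (ι.p l)) = ⊤ := by rw [h (ι.p l)]; exact hc _
  have e := gvec_unique hrd ι (V (ι.p l)) hN
    (by rw [h (ι.p l)]; exact subset_span ⟨l, gvec_eq_zvec ι c l⟩)
    (by rw [h' (ι.p l)]; exact subset_span ⟨l, gvec_eq_zvec ι c' l⟩)
  rw [gvec, gvec, add_left_cancel_iff] at e
  have hinj := (cols_bijective hrd (ι.J (ι.p l)) _ (hc (ι.p l))).1
  have := @hinj (Sum.elim (c l) 0) (Sum.elim (c' l) 0) (by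
    simp [Fintype.linearCombination_apply, Fintype.sum_sum_type, cols, e])
  exact congrFun this (Sum.inl a)

theorem op_tp_F (hI : ∀ i, (f i).comp (g i) = s • LinearMap.id ∧ (g i).comp (f i) = s • LinearMap.id)
    (a j : ℕ) (x : Fin d → A) :
    op A (Fm f j) (op A (tp (Fm f) (Gm g s) a j) x) =
      if a ≤ j then op A (tp (Fm f) (Gm g s) a (j + 1)) x
      else algebraMap R A s • op A (tp (Fm f) (Gm g s) a (j + 1)) x := by
  split_ifs with h
  · rw [tp_succ _ _ h, map_mul]; rfl
  · rw [tp_of_lt _ _ (not_le.1 h), map_mul, ← Module.End.mul_apply, ← mul_assoc, ← map_mul,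
      (Fm_mul_Gm f g s hI j).1, op_smul_one]
    simp

theorem op_tp_G (hI : ∀ i, (f i).comp (g i) = s • LinearMap.id ∧ (g i).comp (f i) = s • LinearMap.id)
    (a j : ℕ) (x : Fin d → A) :
    op A (Gm g s j) (op A (tp (Fm f) (Gm g s) a (j + 1)) x) =
      if a ≤ j then algebraMap R A s • op A (tp (Fm f) (Gm g s) a j) x
      else op A (tp (Fm f) (Gm g s) a j) x := by
  split_ifs with h
  · rw [tp_succ _ _ h, map_mul, ← Module.End.mul_apply, ← mul_assoc, ← map_mul,
      (Fm_mul_Gm f g s hI j).2, op_smul_one]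
    simp
  · rw [tp_of_lt _ _ (not_le.1 h), map_mul]; rfl

theorem idx_val {j : ℕ} (h : j ≤ n) : (idx (n := n) j).1 = j := min_eq_left h

theorem idx_fin (j : Fin (n + 1)) : idx (n := n) j.1 = j := Fin.ext (idx_val (Nat.lt_succ_iff.1 j.2))

/-- Vectors linked up to span give a point. -/
theorem exists_linked_point (hrd : r ≤ d)
    (hI : ∀ i, (f i).comp (g i) = s • LinearMap.id ∧ (g i).comp (f i) = s • LinearMap.id)
    (J : Fin (n + 1) → Fin (d - r) → Fin d) (z : ℕ → Fin r → Fin d → A)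
    (hz : ∀ j : Fin (n + 1), cspan A (J j) ⊔ span A (Set.range (z j.1)) = ⊤)
    (hF : ∀ i < n, ∀ l, op A (Fm f i) (z i l) ∈ span A (Set.range (z (i + 1))))
    (hG : ∀ i < n, ∀ l, op A (Gm g s i) (z (i + 1) l) ∈ span A (Set.range (z i))) :
    ∃ V : W4c1limliniiii.LGPoints R d r n f g A, ∀ j : Fin (n + 1), sub (V.1 j) = span A (Set.range (z j.1)) := by
  choose N hN using fun j => exists_point (R := R) hrd (J j) (z j.1) (hz j)
  have hfam : ∀ i ≤ n, fam N i = span A (Set.range (z i)) := fun i hi => by rw [fam, hN, idx_val hi]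
  refine ⟨⟨N, (mem_LG A hI N).2 ⟨fun i hi x hx => ?_, fun i hi x hx => ?_⟩⟩, hN⟩
  · rw [hfam (i + 1) hi]
    rw [hfam i hi.le] at hx
    refine Submodule.span_le.2 ?_ |> fun h => (h : span A (Set.range (z i)) ≤
      (span A (Set.range (z (i + 1)))).comap (op A (Fm f i))) hx
    rintro _ ⟨l, rfl⟩
    exact hF i hi l
  · rw [hfam i hi.le]
    rw [hfam (i + 1) hi] at hx
    refine Submodule.span_le.2 ?_ |> fun h => (h : span A (Set.range (z (i + 1))) ≤
      (span A (Set.range (z i))).comap (op A (Gm g s i))) hx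
    rintro _ ⟨l, rfl⟩
    exact hG i hi l

theorem Good.exists_mem (hrd : r ≤ d)
    (hI : ∀ i, (f i).comp (g i) = s • LinearMap.id ∧ (g i).comp (f i) = s • LinearMap.id)
    {ι : Idx d r n} {c : Fin r → Fin (d - r) → A} (hc : Good f g s ι c) :
    ∃ V : W4c1limliniiii.LGPoints R d r n f g A, Mem f g s ι c V.1 :=
  exists_linked_point hrd hI ι.J (zvec f g s ι c) hc
    (fun i _ l => by
      rw [zvec, op_tp_F hI]
      split_ifs
      · exact subset_span ⟨l, rfl⟩
      · exact smul_mem _ _ (subset_span ⟨l, rfl⟩))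
    (fun i _ l => by
      rw [zvec, op_tp_G hI]
      split_ifs
      · exact smul_mem _ _ (subset_span ⟨l, rfl⟩)
      · exact subset_span ⟨l, rfl⟩)

theorem exists_preimage_of_mem_span (φ : A →ₐ[R] B) (hφ : Function.Surjective φ) (M : Submodule A (Fin d → A))
    {v : Fin d → B} (hv : v ∈ span B ((fun w : Fin d → A => (φ ∘ w : Fin d → B)) '' (M : Set (Fin d → A)))) :
    ∃ w ∈ M, (φ ∘ w : Fin d → B) = v := by
  induction hv using Submodule.span_induction with
  | mem x hx => exact hx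
  | zero => exact ⟨0, zero_mem _, funext fun j => map_zero φ⟩
  | add x y _ _ hx hy =>
    obtain ⟨a, ha, rfl⟩ := hx
    obtain ⟨b, hb, rfl⟩ := hy
    exact ⟨a + b, add_mem ha hb, funext fun j => map_add φ _ _⟩
  | smul c x _ hx =>
    obtain ⟨a, ha, rfl⟩ := hx
    obtain ⟨c, rfl⟩ := hφ c
    exact ⟨c • a, smul_mem _ _ ha, funext fun j => map_mul φ _ _⟩

/-- Being in a chart lifts along square-zero thickenings. -/
theorem exists_lift_param (hrd : r ≤ d)
    (hI : ∀ i, (f i).comp (g i) = s • LinearMap.id ∧ (g i).comp (f i) = s • LinearMap.id)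
    (φ : A →ₐ[R] B) (hφ : Function.Surjective φ) (hsq : ∀ a b, φ a = 0 → φ b = 0 → a * b = 0)
    {ι : Idx d r n} {cB : Fin r → Fin (d - r) → B}
    {V : Fin (n + 1) → Module.Grassmannian A (A ⊗[R] (Fin d → R)) (d - r)}
    (hV : V ∈ W4c1limliniiii.LGPoints R d r n f g A) (hc : Good f g s ι cB)
    (h : Mem f g s ι cB (fun i => Module.Grassmannian.map φ (V i))) :
    ∃ c, Good f g s ι c ∧ Mem f g s ι c V := by
  have htop : ∀ j, cspan A (ι.J j) ⊔ sub (V j) = ⊤ := fun j => by
    have hpre : ∀ v : Fin d → A, ∃ m ∈ cspan A (ι.J j) ⊔ sub (V j), (φ ∘ m : Fin d → B) = φ ∘ v := by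
      intro v
      refine exists_preimage_of_mem_span φ hφ _ ?_
      have hmem : (φ ∘ v : Fin d → B) ∈ cspan B (ι.J j) ⊔ sub (Module.Grassmannian.map φ (V j)) := by
        have := h j
        rw [this, hc j]; trivial
      refine (sup_le ?_ ?_ : cspan B (ι.J j) ⊔ sub (Module.Grassmannian.map φ (V j)) ≤ _) hmem
      · refine span_le.2 ?_
        rintro _ ⟨a, rfl⟩
        exact subset_span ⟨_, mem_sup_left (subset_span ⟨a, rfl⟩), comp_single φ _⟩
      · rw [sub_map]
        exact span_mono (Set.image_mono fun w hw => mem_sup_right hw)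
    rw [eq_top_iff]
    intro v _
    obtain ⟨m, hm, hmv⟩ := hpre v
    have hker : ∀ x, φ ((v - m) x) = 0 := fun x => by
      rw [Pi.sub_apply, map_sub]; exact sub_eq_zero.2 (congrFun hmv x).symm
    have : v - m ∈ cspan A (ι.J j) ⊔ sub (V j) := by
      rw [pi_eq_sum_univ' (v - m)]
      refine sum_mem fun x _ => ?_
      obtain ⟨m', hm', hm''⟩ := hpre (Pi.single x 1)
      suffices e : (v - m) x • (Pi.single x 1 : Fin d → A) = (v - m) x • m' by
        rw [e]; exact smul_mem _ _ hm'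
      rw [← sub_eq_zero, ← smul_sub]
      funext y
      exact hsq _ _ (hker x) (by
        rw [Pi.sub_apply, map_sub]; exact sub_eq_zero.2 (congrFun hm'' y).symm)
    simpa using add_mem this hm
  have hsplit : ∀ l, ∃ c : Fin (d - r) → A,
      Pi.single (ι.b l) 1 + ∑ a, c a • (Pi.single (ι.J (ι.p l) a) 1 : Fin d → A) ∈ sub (V (ι.p l)) := fun l => by
    obtain ⟨y, hy, y', hy', e⟩ := Submodule.mem_sup.1
      ((htop (ι.p l)).ge (Submodule.mem_top : (Pi.single (ι.b l) 1 : Fin d → A) ∈ ⊤))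
    rw [cspan, Submodule.mem_span_range_iff_exists_fun] at hy
    obtain ⟨c, hc⟩ := hy
    refine ⟨-c, ?_⟩
    convert hy' using 1
    rw [← e, ← hc]
    simp
  choose c hcV using hsplit
  have hz : ∀ j l, (φ ∘ zvec f g s ι c j l : Fin d → B) = zvec f g s ι cB j l := fun j l => by
    rw [comp_zvec, zvec, zvec]
    congr 1
    refine gvec_unique hrd ι (Module.Grassmannian.map φ (V (ι.p l))) ?_ ?_ ?_
    · have := h (ι.p l); rw [this]; exact hc _
    · rw [← comp_gvec, sub_map]; exact subset_span ⟨_, hcV l, rfl⟩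
    · have := h (ι.p l)
      rw [this]; exact subset_span ⟨l, gvec_eq_zvec ι cB l⟩
  have hgood : Good f g s ι c := fun j => by
    rw [← isUnit_det_iff hrd]
    have hu := (isUnit_det_iff hrd (ι.J j) (zvec f g s ι cB j.1)).2 (hc j)
    rw [show (zvec f g s ι cB j.1) = fun l => (φ ∘ zvec f g s ι c j.1 l : Fin d → B) from
      (funext fun l => (hz j.1 l).symm), ← colMat_map] at hu
    obtain ⟨y', hy'⟩ := isUnit_iff_exists_inv.1 hu
    obtain ⟨y, rfl⟩ := hφ y'
    refine isUnit_iff_exists_inv.2 ⟨y * (2 - (colMat hrd (ι.J j) (zvec f g s ι c j.1)).det * y), ?_⟩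
    have h0 := hsq ((colMat hrd (ι.J j) (zvec f g s ι c j.1)).det * y - 1)
      ((colMat hrd (ι.J j) (zvec f g s ι c j.1)).det * y - 1) (by simp [hy']) (by simp [hy'])
    linear_combination -h0
  refine ⟨c, hgood, fun j => eq_span_of_le _ _ _ (fun l => ?_) (hgood j)⟩
  have := tp_mem_fam A hI hV (a := (ι.p l).1) (x := gvec ι c l) (by rw [fam, idx_fin]; exact hcV l) j.1
  rwa [fam, idx_fin] at this

/-! ### The chart scheme -/

variable (f g s) in
/-- The coordinate ring of a chart. -/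
abbrev cRing (hrd : r ≤ d) (ι : Idx d r n) : CommAlgCat.{u} R :=
  CommAlgCat.of R (Localization.Away
    (Dprod f g s hrd ι (fun l a => (MvPolynomial.X (l, a) : MvPolynomial (Fin r × Fin (d - r)) R))))

variable (f g s) in
/-- The universal parameters. -/
def cUniv (hrd : r ≤ d) (ι : Idx d r n) (l : Fin r) (a : Fin (d - r)) : cRing f g s hrd ι :=
  algebraMap (MvPolynomial (Fin r × Fin (d - r)) R) _ (MvPolynomial.X (l, a))

theorem good_cUniv (hrd : r ≤ d) (ι : Idx d r n) : Good f g s ι (cUniv f g s hrd ι) := by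
  rw [good_iff hrd]
  have := comp_Dprod (f := f) (g := g) (s := s)
    (IsScalarTower.toAlgHom R (MvPolynomial (Fin r × Fin (d - r)) R) (cRing f g s hrd ι)) hrd ι
    (fun l a => MvPolynomial.X (l, a))
  rw [show cUniv f g s hrd ι = fun l a => IsScalarTower.toAlgHom R (MvPolynomial (Fin r × Fin (d - r)) R)
    (cRing f g s hrd ι) (MvPolynomial.X (l, a)) from rfl, ← this]
  exact IsLocalization.Away.algebraMap_isUnit _

theorem cRing_hom_ext (hrd : r ≤ d) (ι : Idx d r n) {φ ψ : cRing f g s hrd ι →ₐ[R] A}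
    (h : ∀ l a, φ (cUniv f g s hrd ι l a) = ψ (cUniv f g s hrd ι l a)) : φ = ψ := by
  refine AlgHom.coe_ringHom_injective (IsLocalization.ringHom_ext
    (Submonoid.powers (Dprod f g s hrd ι
      (fun l a => (MvPolynomial.X (l, a) : MvPolynomial (Fin r × Fin (d - r)) R)))) ?_)
  refine MvPolynomial.ringHom_ext (fun x => ?_) (fun x => ?_)
  · have e : algebraMap (MvPolynomial (Fin r × Fin (d - r)) R) (cRing f g s hrd ι) (MvPolynomial.C x) =
        algebraMap R _ x := by
      rw [← MvPolynomial.algebraMap_eq, ← IsScalarTower.algebraMap_apply]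
    show φ _ = ψ _
    rw [e, AlgHom.commutes, AlgHom.commutes]
  · exact h x.1 x.2

theorem exists_cRing_hom (hrd : r ≤ d) (ι : Idx d r n) {c : Fin r → Fin (d - r) → A} (hc : Good f g s ι c) :
    ∃ φ : cRing f g s hrd ι →ₐ[R] A, ∀ l a, φ (cUniv f g s hrd ι l a) = c l a := by
  let ev : MvPolynomial (Fin r × Fin (d - r)) R →ₐ[R] A := MvPolynomial.aeval fun x => c x.1 x.2
  have hu : ∀ y : Submonoid.powers (Dprod f g s hrd ι
      (fun l a => (MvPolynomial.X (l, a) : MvPolynomial (Fin r × Fin (d - r)) R))), IsUnit (ev y) := by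
    rintro ⟨_, k, rfl⟩
    rw [map_pow, comp_Dprod]
    refine IsUnit.pow k ?_
    rw [← good_iff]
    simpa [ev] using hc
  exact ⟨IsLocalization.liftAlgHom hu, fun l a => by
    show IsLocalization.lift _ _ = _
    rw [cUniv, IsLocalization.lift_eq]
    simp [ev]⟩

variable (X : Over (Spec (CommRingCat.of R)))
  (e : ∀ A : CommAlgCat.{u} R,
    (Over.mk (Spec.map (CommRingCat.ofHom (algebraMap R A))) ⟶ X) ≃
      W4c1limliniiii.LGPoints R d r n f g A)

/-- The tuple of a point. -/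
abbrev tup {A : CommAlgCat.{u} R} (x : Pt X A) : Fin (n + 1) → Module.Grassmannian A (A ⊗[R] (Fin d → R)) (d - r) :=
  (e A x).1

/-- The chart morphism. -/
def chartHom (hrd : r ≤ d)
    (hI : ∀ i, (f i).comp (g i) = s • LinearMap.id ∧ (g i).comp (f i) = s • LinearMap.id) (ι : Idx d r n) :
    Pt X (cRing f g s hrd ι) :=
  (e _).symm (Good.exists_mem hrd hI (good_cUniv hrd ι)).choose

theorem mem_chartHom (hrd : r ≤ d)
    (hI : ∀ i, (f i).comp (g i) = s • LinearMap.id ∧ (g i).comp (f i) = s • LinearMap.id) (ι : Idx d r n) :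
    Mem f g s ι (cUniv f g s hrd ι) (tup X e (chartHom X e hrd hI ι)) := by
  rw [tup, chartHom, Equiv.apply_symm_apply]
  exact (Good.exists_mem hrd hI (good_cUniv hrd ι)).choose_spec

variable {X e}
variable (he : ∀ (A B : CommAlgCat.{u} R) (φ : A ⟶ B)
      (x : Over.mk (Spec.map (CommRingCat.ofHom (algebraMap R A))) ⟶ X)
      (x' : Over.mk (Spec.map (CommRingCat.ofHom (algebraMap R B))) ⟶ X),
      x'.left = Spec.map (CommRingCat.ofHom φ.hom.toRingHom) ≫ x.left →
        ∀ i, (e B x').1 i = Module.Grassmannian.map φ.hom ((e A x).1 i))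
  (hrd : r ≤ d) (hI : ∀ i, (f i).comp (g i) = s • LinearMap.id ∧ (g i).comp (f i) = s • LinearMap.id)

include he in
theorem tup_res {A B : CommAlgCat.{u} R} (φ : A ⟶ B) (x : Pt X A) :
    tup X e (res φ x) = fun i => Module.Grassmannian.map φ.hom (tup X e x i) :=
  funext fun i => he A B φ x (res φ x) rfl i

include he in
/-- The points of a chart. -/
theorem exists_comp_eq_iff (ι : Idx d r n) {A : CommAlgCat.{u} R} (x : Pt X A) :
    (∃ z : Pt (Over.mk (Spec.map (CommRingCat.ofHom (algebraMap R (cRing f g s hrd ι))))) A,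
      z ≫ chartHom X e hrd hI ι = x) ↔ ∃ c, Good f g s ι c ∧ Mem f g s ι c (tup X e x) := by
  constructor
  · rintro ⟨z, rfl⟩
    obtain ⟨φ, rfl⟩ := exists_wPt_eq z
    refine ⟨fun l a => φ.hom (cUniv f g s hrd ι l a), ?_, ?_⟩
    · rw [good_iff hrd, ← comp_Dprod φ.hom]
      exact ((good_iff hrd).1 (good_cUniv hrd ι)).map φ.hom
    · show Mem f g s ι _ (tup X e (res φ (chartHom X e hrd hI ι)))
      rw [tup_res he]
      exact (mem_chartHom X e hrd hI ι).map φ.hom
  · rintro ⟨c, hc, hm⟩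
    obtain ⟨φ, hφ⟩ := exists_cRing_hom hrd ι hc
    refine ⟨wPt (CommAlgCat.ofHom φ), (e A).injective (Subtype.ext ?_)⟩
    show tup X e (res (CommAlgCat.ofHom φ) (chartHom X e hrd hI ι)) = _
    rw [tup_res he]
    have := (mem_chartHom X e hrd hI ι).map φ
    rw [show (fun l a => φ (cUniv f g s hrd ι l a)) = c from funext fun l => funext fun a => hφ l a] at this
    exact this.eq hm

include he in
theorem chartHom_injective (ι : Idx d r n) {A : CommAlgCat.{u} R}
    (z z' : Pt (Over.mk (Spec.map (CommRingCat.ofHom (algebraMap R (cRing f g s hrd ι))))) A)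
    (h : z ≫ chartHom X e hrd hI ι = z' ≫ chartHom X e hrd hI ι) : z = z' := by
  obtain ⟨φ, rfl⟩ := exists_wPt_eq z
  obtain ⟨ψ, rfl⟩ := exists_wPt_eq z'
  have h1 := (mem_chartHom X e hrd hI ι).map φ.hom
  have h2 := (mem_chartHom X e hrd hI ι).map ψ.hom
  have e' : tup X e (res φ (chartHom X e hrd hI ι)) = tup X e (res ψ (chartHom X e hrd hI ι)) :=
    congrArg (tup X e) h
  rw [tup_res he, tup_res he] at e'
  rw [← e'] at h2
  have hgood : Good f g s ι (fun l a => φ.hom (cUniv f g s hrd ι l a)) := by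
    rw [good_iff hrd, ← comp_Dprod φ.hom]
    exact ((good_iff hrd).1 (good_cUniv hrd ι)).map φ.hom
  have hc := h1.unique hrd hgood h2
  exact congrArg wPt (CommAlgCat.hom_ext (cRing_hom_ext hrd ι fun l a => congrFun (congrFun hc l) a))

include he in
theorem mono_chartHom (ι : Idx d r n) : Mono (chartHom X e hrd hI ι).left := by
  refine ⟨fun {T} a b hab =>
    (Scheme.openCoverOfIsOpenCover _ _ (iSup_affineOpens_eq_top T)).hom_ext _ _ fun (V : T.affineOpens) => ?_⟩
  let j := V.2.fromSpec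
  obtain ⟨ρ, hρ⟩ : ∃ ρ, Spec.map ρ = (j ≫ a) ≫
      Spec.map (CommRingCat.ofHom (algebraMap R (cRing f g s hrd ι))) := Spec.map_surjective _
  letI : Algebra R Γ(T, V) := ρ.hom.toAlgebra
  let za : Pt (Over.mk (Spec.map (CommRingCat.ofHom (algebraMap R (cRing f g s hrd ι)))))
      (CommAlgCat.of R Γ(T, V)) := Over.homMk (j ≫ a) hρ.symm
  let zb : Pt (Over.mk (Spec.map (CommRingCat.ofHom (algebraMap R (cRing f g s hrd ι)))))
      (CommAlgCat.of R Γ(T, V)) := Over.homMk (j ≫ b) (by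
      refine Eq.trans ?_ hρ.symm
      have hw := Over.w (chartHom X e hrd hI ι)
      show (j ≫ b) ≫ Spec.map _ = (j ≫ a) ≫ Spec.map _
      simp only [Over.mk_hom] at hw
      rw [← hw, Category.assoc, Category.assoc]
      erw [reassoc_of% hab])
  have := congrArg CategoryTheory.Over.Hom.left (chartHom_injective he hrd hI ι za zb (by
    ext1
    show (j ≫ a) ≫ _ = (j ≫ b) ≫ _
    rw [Category.assoc, Category.assoc, hab]))
  show V.1.ι ≫ a = V.1.ι ≫ b
  rw [← V.2.isoSpec_hom_fromSpec, Category.assoc, Category.assoc]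
  exact congrArg (V.2.isoSpec.hom ≫ ·) this

include he in
theorem isOpenImmersion_chartHom [LocallyOfFiniteType X.hom] (ι : Idx d r n) :
    IsOpenImmersion (chartHom X e hrd hI ι).left := by
  haveI := mono_chartHom he hrd hI ι
  haveI : LocallyOfFinitePresentation ((chartHom X e hrd hI ι).left ≫ X.hom) := by
    rw [Over.w]
    show LocallyOfFinitePresentation (Spec.map _)
    rw [LocallyOfFinitePresentation.SpecMap_iff]
    haveI : Algebra.FinitePresentation (MvPolynomial (Fin r × Fin (d - r)) R) (cRing f g s hrd ι) :=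
      IsLocalization.Away.finitePresentation (Dprod f g s hrd ι
        (fun l a => (MvPolynomial.X (l, a) : MvPolynomial (Fin r × Fin (d - r)) R)))
    exact RingHom.finitePresentation_algebraMap.2
      (Algebra.FinitePresentation.trans R (MvPolynomial (Fin r × Fin (d - r)) R) _)
  refine isOpenImmersion_of_mono_lift _ X.hom fun C _ I hI2 g₀ h0 hh0 => ?_
  obtain ⟨ρ, hρ⟩ : ∃ ρ, Spec.map ρ = g₀ ≫ X.hom := Spec.map_surjective _
  letI := ρ.hom.toAlgebra
  let x : Pt X (CommAlgCat.of R C) := Over.homMk g₀ hρ.symm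
  let π : CommAlgCat.of R C ⟶ CommAlgCat.of R (C ⧸ I) := CommAlgCat.ofHom (Ideal.Quotient.mkₐ R I)
  let z : Pt (Over.mk (Spec.map (CommRingCat.ofHom (algebraMap R (cRing f g s hrd ι)))))
      (CommAlgCat.of R (C ⧸ I)) := Over.homMk h0 (by
    refine Eq.trans ?_ (Over.w (res π x))
    show h0 ≫ Spec.map _ = (res π x).left ≫ X.hom
    rw [show (res π x).left = h0 ≫ (chartHom X e hrd hI ι).left from hh0.symm, Category.assoc, Over.w]
    rfl)
  obtain ⟨cB, hcB, hmB⟩ := (exists_comp_eq_iff he hrd hI ι (res π x)).1 ⟨z, by ext1; exact hh0⟩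
  rw [tup_res he] at hmB
  obtain ⟨c, hc, hm⟩ := exists_lift_param hrd hI π.hom Ideal.Quotient.mk_surjective
    (fun a b ha hb => by
      have := Ideal.mul_mem_mul (Ideal.Quotient.eq_zero_iff_mem.1 ha) (Ideal.Quotient.eq_zero_iff_mem.1 hb)
      rwa [← sq, hI2, Ideal.mem_bot] at this)
    (e _ x).2 hcB hmB
  obtain ⟨w, hw⟩ := (exists_comp_eq_iff he hrd hI ι x).2 ⟨c, hc, hm⟩
  exact ⟨w.left, congrArg CategoryTheory.Over.Hom.left hw⟩

end GrothLib.LinkExact10
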