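import Groth.Agent.Lib.LinkExact10.Transport
import Mathlib.LinearAlgebra.FiniteDimensional.Lemmas
import Mathlib.LinearAlgebra.Dimension.Constructions
import Mathlib.LinearAlgebra.Dimension.OrzechProperty

/-!
# Frames of linked subspaces over a field
-/

set_option autoImplicit false
set_option linter.all false
set_option backward.isDefEq.respectTransparency false

open Submodule Module LinearMap

namespace GrothLib.LinkExact10

variable {L : Type*} [Field L] {E : Type*} [AddCommGroup E] [Module L E]

/-- The conditions on the maps of a linked chain. -/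
structure Hyp (F G : ℕ → Module.End L E) (s : L) : Prop where
  mulFG : ∀ i, F i * G i = s • 1
  mulGF : ∀ i, G i * F i = s • 1
  disj : ∀ i, Disjoint (LinearMap.range (F i)) (LinearMap.ker (F (i + 1)))
  kerF : s = 0 → ∀ i, LinearMap.ker (F i) = LinearMap.range (G i)
  kerG : s = 0 → ∀ i, LinearMap.ker (G i) = LinearMap.range (F i)

/-- A linked family of subspaces of dimension `r`. -/
structure Linked (F G : ℕ → Module.End L E) (n r : ℕ) (W : ℕ → Submodule L E) : Prop where
  mapF : ∀ i, ∀ x ∈ W i, F i x ∈ W (i + 1)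
  mapG : ∀ i, ∀ x ∈ W (i + 1), G i x ∈ W i
  rank : ∀ i, finrank L (W i) = r
  last : LinearMap.ker (F n) = ⊥

/-- Exactness. -/
def Ex (F G : ℕ → Module.End L E) (n : ℕ) (W : ℕ → Submodule L E) : Prop :=
  ∀ i < n, LinearMap.ker (G i) ⊓ W (i + 1) ≤ (W i).map (F i) ∧
    LinearMap.ker (F i) ⊓ W i ≤ (W (i + 1)).map (G i)

/-- A frame: vectors at given positions whose transports span everywhere. -/
def IsFrame (F G : ℕ → Module.End L E) (n : ℕ) {r : ℕ} (p : Fin r → ℕ) (u : Fin r → E)
    (W : ℕ → Submodule L E) : Prop :=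
  ∀ j ≤ n, W j = span L (Set.range fun l => tp F G (p l) j (u l))

variable {F G : ℕ → Module.End L E} {s : L} {n r : ℕ} {W : ℕ → Submodule L E}

theorem tp_mem (hW : Linked F G n r W) {a : ℕ} {x : E} (hx : x ∈ W a) : ∀ j, tp F G a j x ∈ W j := by
  intro j
  rcases le_or_gt a j with h | h
  · induction j, h using Nat.le_induction with
    | base => simpa using hx
    | succ j hj ih => rw [tp_succ F G hj]; exact hW.mapF j _ ih
  · obtain ⟨k, rfl⟩ := Nat.exists_eq_add_of_le h.le
    clear h
    induction k generalizing j with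
    | zero => simpa using hx
    | succ k ih =>
      rw [tp_of_lt F G (by omega)]
      refine hW.mapG j _ ?_
      have e : j + (k + 1) = j + 1 + k := by omega
      rw [e] at hx ⊢
      exact ih (j + 1) hx

theorem tp_apply_F (h : Hyp F G s) (a j : ℕ) (x : E) :
    F j (tp F G a j x) = if a ≤ j then tp F G a (j + 1) x else s • tp F G a (j + 1) x := by
  split_ifs with ha
  · rw [tp_succ F G ha]; rfl
  · rw [tp_of_lt F G (not_le.1 ha)]
    exact congrArg (fun φ : Module.End L E => φ (tp F G a (j + 1) x)) (h.mulFG j)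

theorem tp_apply_G (h : Hyp F G s) (a j : ℕ) (x : E) :
    G j (tp F G a (j + 1) x) = if a ≤ j then s • tp F G a j x else tp F G a j x := by
  split_ifs with ha
  · rw [tp_succ F G ha]
    exact congrArg (fun φ : Module.End L E => φ (tp F G a j x)) (h.mulGF j)
  · rw [tp_of_lt F G (not_le.1 ha)]; rfl

/-- The transports of a frame are independent. -/
theorem IsFrame.linearIndependent [FiniteDimensional L E] (hW : Linked F G n r W) {p : Fin r → ℕ}
    {u : Fin r → E} (hu : IsFrame F G n p u W) {j : ℕ} (hj : j ≤ n) :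
    LinearIndependent L fun l => tp F G (p l) j (u l) := by
  rw [linearIndependent_iff_card_eq_finrank_span, Fintype.card_fin, Set.finrank, ← hu j hj, hW.rank]

/-- A family with a frame is exact. -/
theorem ex_of_frame [FiniteDimensional L E] (h : Hyp F G s) (hW : Linked F G n r W) {p : Fin r → ℕ}
    {u : Fin r → E} (hu : IsFrame F G n p u W) : Ex F G n W := by
  intro i hi
  constructor
  · rintro x ⟨hx0, hx⟩
    obtain ⟨c, rfl⟩ : ∃ c : Fin r → L, ∑ l, c l • tp F G (p l) (i + 1) (u l) = x := by
      rw [SetLike.mem_coe, hu (i + 1) hi, Submodule.mem_span_range_iff_exists_fun] at hx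
      exact hx
    have h0 : ∑ l, (c l * if p l ≤ i then s else 1) • tp F G (p l) i (u l) = 0 := by
      rw [← LinearMap.mem_ker.1 hx0, map_sum]
      refine Finset.sum_congr rfl fun l _ => ?_
      rw [map_smul, tp_apply_G h]
      split_ifs <;> simp [smul_smul]
    have hc := Fintype.linearIndependent_iff.1 (hu.linearIndependent hW hi.le) _ h0
    refine Submodule.sum_mem _ fun l _ => ?_
    by_cases hl : p l ≤ i
    · rw [tp_succ F G hl]
      refine Submodule.smul_mem _ _ ⟨tp F G (p l) i (u l), ?_, rfl⟩
      rw [SetLike.mem_coe, hu i hi.le]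
      exact subset_span ⟨l, rfl⟩
    · have := hc l
      rw [if_neg hl, mul_one] at this
      rw [this, zero_smul]
      exact zero_mem _
  · rintro x ⟨hx0, hx⟩
    obtain ⟨c, rfl⟩ : ∃ c : Fin r → L, ∑ l, c l • tp F G (p l) i (u l) = x := by
      rw [SetLike.mem_coe, hu i hi.le, Submodule.mem_span_range_iff_exists_fun] at hx
      exact hx
    have h0 : ∑ l, (c l * if p l ≤ i then 1 else s) • tp F G (p l) (i + 1) (u l) = 0 := by
      rw [← LinearMap.mem_ker.1 hx0, map_sum]
      refine Finset.sum_congr rfl fun l _ => ?_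
      rw [map_smul, tp_apply_F h]
      split_ifs <;> simp [smul_smul]
    have hc := Fintype.linearIndependent_iff.1 (hu.linearIndependent hW hi) _ h0
    refine Submodule.sum_mem _ fun l _ => ?_
    by_cases hl : p l ≤ i
    · have := hc l
      rw [if_pos hl, mul_one] at this
      rw [this, zero_smul]
      exact zero_mem _
    · rw [tp_of_lt F G (not_le.1 hl)]
      refine Submodule.smul_mem _ _ ⟨tp F G (p l) (i + 1) (u l), ?_, rfl⟩
      rw [SetLike.mem_coe, hu (i + 1) hi]
      exact subset_span ⟨l, rfl⟩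

/-- In the degenerate case the dimension of the forward image counts the positions. -/
theorem IsFrame.finrank_map [FiniteDimensional L E] (h : Hyp F G s) (hs : s = 0) (hW : Linked F G n r W)
    {p : Fin r → ℕ} {u : Fin r → E} (hu : IsFrame F G n p u W) {i : ℕ} (hi : i < n) :
    finrank L ((W i).map (F i)) = (Finset.univ.filter fun l => p l ≤ i).card := by
  let v : Fin r → E := fun l => tp F G (p l) (i + 1) (u l)
  have e : (W i).map (F i) = span L (Set.range fun l : {l // p l ≤ i} => v l.1) := by
    rw [hu i hi.le, Submodule.map_span, ← Set.range_comp]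
    refine le_antisymm (span_le.2 ?_) (span_mono ?_)
    · rintro _ ⟨l, rfl⟩
      rw [Function.comp_apply, tp_apply_F h]
      split_ifs with hl
      · exact subset_span ⟨⟨l, hl⟩, rfl⟩
      · rw [hs, zero_smul]; exact zero_mem _
    · rintro _ ⟨⟨l, hl⟩, rfl⟩
      exact ⟨l, by rw [Function.comp_apply, tp_apply_F h, if_pos hl]⟩
  have hli : LinearIndependent L fun l : {l // p l ≤ i} => v l.1 :=
    (hu.linearIndependent hW hi).comp _ Subtype.val_injective
  rw [e, finrank_span_eq_card hli, Fintype.card_subtype]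

theorem finrank_map_add_ker (f : Module.End L E) (U : Submodule L E) [FiniteDimensional L E] :
    finrank L (U.map f) + finrank L (LinearMap.ker f ⊓ U : Submodule L E) = finrank L U := by
  have := LinearMap.finrank_range_add_finrank_ker (f.domRestrict U)
  rw [LinearMap.range_domRestrict, LinearMap.ker_domRestrict] at this
  have e : (LinearMap.ker f ⊓ U : Submodule L E).comap U.subtype = (LinearMap.ker f).comap U.subtype := by
    rw [Submodule.comap_inf, Submodule.comap_subtype_self, inf_top_eq]
  rw [← this, ← LinearEquiv.finrank_eq (Submodule.comapSubtypeEquivOfLe (inf_le_right : LinearMap.ker f ⊓ U ≤ U)), e]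

/-- A complement chosen inside a spanning set. -/
theorem exists_compl_of_span [FiniteDimensional L E] {P U : Submodule L E} (hPU : P ≤ U) (S : Set E)
    (hS : span L S = U) :
    ∃ u : Fin (finrank L U - finrank L P) → E, (∀ a, u a ∈ S) ∧ P ⊔ span L (Set.range u) = U := by
  classical
  obtain ⟨b, hbS, hspan, hb⟩ := exists_linearIndependent L (P.mkQ '' S)
  haveI : Finite b := hb.finite
  haveI := Fintype.ofFinite b
  choose w hw hwb using fun x : b => hbS x.2
  have hmap : U.map P.mkQ = span L b := by rw [hspan, ← Submodule.map_span, hS]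
  have hcard : Fintype.card b = finrank L U - finrank L P := by
    have h1 : finrank L (U.map P.mkQ) = Fintype.card b := by
      rw [hmap, ← finrank_span_eq_card hb, Subtype.range_coe]
    have h2 := finrank_map_add_ker' P U hPU
    omega
  let e := (Fintype.equivFinOfCardEq hcard).symm
  refine ⟨fun a => w (e a), fun a => hw _, le_antisymm (sup_le hPU (span_le.2 ?_)) fun x hx => ?_⟩
  · rintro _ ⟨a, rfl⟩
    exact hS.le (subset_span (hw _))
  · have hx' : P.mkQ x ∈ (span L (Set.range fun a => w (e a))).map P.mkQ := by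
      have : P.mkQ x ∈ span L b := hmap ▸ Submodule.mem_map_of_mem hx
      rw [Submodule.map_span, ← Set.range_comp]
      refine span_mono ?_ this
      intro y hy
      exact ⟨e.symm ⟨y, hy⟩, by simp [hwb]⟩
    obtain ⟨y, hy, hxy⟩ := hx'
    rw [Submodule.mkQ_apply, Submodule.mkQ_apply, Submodule.Quotient.eq] at hxy
    rw [sup_comm]
    exact Submodule.mem_sup.2 ⟨y, hy, x - y, by simpa using neg_mem hxy, by abel⟩
where
  finrank_map_add_ker' (P U : Submodule L E) (hPU : P ≤ U) :
      finrank L (U.map P.mkQ) + finrank L P = finrank L U := by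
    have := LinearMap.finrank_range_add_finrank_ker (P.mkQ.domRestrict U)
    rw [LinearMap.range_domRestrict, LinearMap.ker_domRestrict, Submodule.ker_mkQ] at this
    rw [← this, (Submodule.comapSubtypeEquivOfLe hPU).finrank_eq]

theorem injective_F (h : Hyp F G s) (hs : s ≠ 0) (i : ℕ) : Function.Injective (F i) := fun x y hxy => by
  have := congrArg (G i) hxy
  rw [← Module.End.mul_apply, ← Module.End.mul_apply, h.mulGF] at this
  exact smul_right_injective E hs this

/-- If the scalar is invertible there is a frame at position zero. -/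
theorem frame_of_ne_zero [FiniteDimensional L E] (h : Hyp F G s) (hs : s ≠ 0) (hW : Linked F G n r W)
    (S : Set E) (hS : span L S = W 0) :
    ∃ u : Fin r → E, (∀ l, u l ∈ S) ∧ IsFrame F G n (fun _ => 0) u W := by
  obtain ⟨u, hu, husp⟩ := exists_compl_of_span (bot_le : ⊥ ≤ W 0) S hS
  rw [bot_sup_eq] at husp
  let e : Fin r ≃ Fin (finrank L (W 0) - finrank L (⊥ : Submodule L E)) :=
    finCongr (by rw [hW.rank, finrank_bot]; omega)
  refine ⟨u ∘ e, fun l => hu _, fun j _ => ?_⟩
  induction j with
  | zero =>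
    simp only [tp_self, Module.End.one_apply]
    exact husp.symm.trans (congrArg _ (e.surjective.range_comp u).symm)
  | succ j ih =>
    have hle : (W j).map (F j) ≤ W (j + 1) := by
      rintro _ ⟨x, hx, rfl⟩
      exact hW.mapF j x hx
    rw [← Submodule.eq_of_le_of_finrank_eq hle (by
      rw [hW.rank, ← (Submodule.equivMapOfInjective _ (injective_F h hs j) _).finrank_eq, hW.rank]),
      ih, Submodule.map_span, ← Set.range_comp]
    · exact congrArg (fun g => span L (Set.range g))
        (funext fun l => (tp_apply_F h 0 j _).trans (if_pos (Nat.zero_le j)))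
    · omega

/-- The degenerate frame: unpaired vectors, and pairs at consecutive positions. -/
theorem deg_frame [FiniteDimensional L E] (h : Hyp F G s) (hs : s = 0) (hW : Linked F G n r W)
    (S : ℕ → Set E) (hS : ∀ j ≤ n, span L (S j) = W j) :
    ∃ (p : Fin r → ℕ) (q : Fin r → Bool) (x v : Fin r → E), (∀ l, p l ≤ n) ∧ (∀ l, x l ∈ W (p l)) ∧
      (∀ l, q l = true → p l < n ∧ F (p l) (x l) = 0 ∧ G (p l) (v l) = 0 ∧ v l ∈ W (p l + 1)) ∧
      (∀ l, q l = false → x l ∈ S (p l)) ∧ (Ex F G n W → ∀ l, q l = false) ∧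
      ∀ j ≤ n, W j = span L (Set.range fun l =>
        if q l = true ∧ p l < j then tp F G (p l + 1) j (v l) else tp F G (p l) j (x l)) := by
  classical
  subst hs
  obtain ⟨A, hA0, hA1⟩ : ∃ A : ℕ → Submodule L E, A 0 = ⊥ ∧ ∀ i, A (i + 1) = LinearMap.ker (G i) ⊓ W (i + 1) :=
    ⟨fun j => match j with
      | 0 => ⊥
      | i + 1 => LinearMap.ker (G i) ⊓ W (i + 1), rfl, fun _ => rfl⟩
  obtain ⟨B, hB⟩ : ∃ B : ℕ → Submodule L E, ∀ j, B j = LinearMap.ker (F j) ⊓ W j := ⟨_, fun _ => rfl⟩
  let a : ℕ → ℕ := fun j => finrank L ((W j).map (F j))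
  let b : ℕ → ℕ := fun j => finrank L ((W (j + 1)).map (G j))
  have hGF : ∀ i x, G i (F i x) = 0 := fun i x => by
    rw [← Module.End.mul_apply, h.mulGF, zero_smul]; rfl
  have hFG : ∀ i x, F i (G i x) = 0 := fun i x => by
    rw [← Module.End.mul_apply, h.mulFG, zero_smul]; rfl
  have hAB : ∀ j, Disjoint (A j) (B j) := by
    intro j
    match j with
    | 0 => rw [hA0]; exact disjoint_bot_left
    | i + 1 => rw [hA1, hB]; exact Disjoint.mono (inf_le_left.trans (h.kerG rfl i).le) inf_le_left (h.disj i)
  have hAW : ∀ j, A j ≤ W j := fun j => match j with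
    | 0 => hA0 ▸ bot_le
    | i + 1 => (hA1 i).le.trans inf_le_right
  have hBW : ∀ j, B j ≤ W j := fun j => (hB j).le.trans inf_le_right
  have hBker : ∀ j, ∀ x ∈ B j, F j x = 0 := fun j x hx => ((hB j).le hx).1
  have hAker : ∀ i, ∀ x ∈ A (i + 1), G i x = 0 := fun i x hx => ((hA1 i).le hx).1
  have hFA : ∀ i, (W i).map (F i) ≤ A (i + 1) := by
    rintro i _ ⟨x, hx, rfl⟩
    exact (hA1 i).ge ⟨hGF i x, hW.mapF i x hx⟩
  have hGB : ∀ i, (W (i + 1)).map (G i) ≤ B i := by
    rintro i _ ⟨x, hx, rfl⟩
    exact (hB i).ge ⟨hFG i x, hW.mapG i x hx⟩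
  have hdB : ∀ i, a i + finrank L (B i) = r := fun i => by
    rw [hB]; exact (finrank_map_add_ker _ _).trans (hW.rank i)
  have hdA : ∀ i, b i + finrank L (A (i + 1)) = r := fun i => by
    rw [hA1]; exact (finrank_map_add_ker _ _).trans (hW.rank (i + 1))
  have hab : ∀ i, a i ≤ finrank L (A (i + 1)) := fun i => Submodule.finrank_mono (hFA i)
  have han : a n = r := by
    have := hdB n
    rw [show B n = ⊥ by simp [hB, hW.last], finrank_bot, add_zero] at this
    exact this
  have hP : ∀ j, finrank L (A j ⊔ B j : Submodule L E) = finrank L (A j) + finrank L (B j) := fun j => by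
    rw [← Submodule.finrank_sup_add_finrank_inf_eq, disjoint_iff.1 (hAB j), finrank_bot, add_zero]
  have hPW : ∀ j, A j ⊔ B j ≤ W j := fun j => sup_le (hAW j) (hBW j)
  -- the three kinds of vectors
  choose um humS humsp using fun j : Fin (n + 1) =>
    exists_compl_of_span (hPW j.1) (S j.1) (hS j.1 (Nat.lt_succ_iff.1 j.2))
  choose uk huk huksp using fun i : ℕ => exists_compl_of_span (hFA i) (A (i + 1) : Set E) (span_eq _)
  choose ul hul hulsp using fun i : ℕ => exists_compl_of_span (hGB i) (B i : Set E) (span_eq _)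
  let m : Fin (n + 1) → ℕ := fun j => finrank L (W j.1) - finrank L (A j.1 ⊔ B j.1 : Submodule L E)
  let δ : ℕ → ℕ := fun i => finrank L (A (i + 1)) - finrank L ((W i).map (F i))
  have hδ : ∀ i, δ i = finrank L (B i) - b i := fun i => by
    have h1 := hdB i
    have h2 := hdA i
    show finrank L (A (i + 1)) - a i = _
    omega
  let ι := (Σ j : Fin (n + 1), Fin (m j)) ⊕ (Σ i : Fin n, Fin (δ i.1))
  have hcount : ∀ k, ∀ hk : k ≤ n,
      (∑ j : Fin (k + 1), m ⟨j.1, by omega⟩) + ∑ i : Fin k, δ i.1 = a k := by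
    intro k
    induction k with
    | zero =>
      intro hk
      have h1 := hdB 0
      have h0 : finrank L (A 0) = 0 := by rw [hA0]; exact finrank_bot L E
      simp [m, hP, h0, hW.rank]
      omega
    | succ k ih =>
      intro hk
      rw [Fin.sum_univ_castSucc, Fin.sum_univ_castSucc (f := fun i : Fin (k + 1) => δ i.1)]
      have := ih (by omega)
      have h1 := hdB k
      have h2 := hdA k
      have h3 := hdB (k + 1)
      have h4 := hab k
      have h5 : finrank L (A (k + 1)) + finrank L (B (k + 1)) ≤ r := by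
        exact ((hP (k + 1)).symm.le.trans (Submodule.finrank_mono (hPW _))).trans (hW.rank (k + 1)).le
      simp only [Fin.val_castSucc, Fin.val_last, m, hP, hW.rank, δ] at this ⊢
      simp only [a] at h1 h3 h4 this ⊢
      omega
  have hι : Fintype.card ι = r := by
    simp only [ι, Fintype.card_sum, Fintype.card_sigma, Fintype.card_fin]
    exact (hcount n le_rfl).trans han
  let ε : Fin r ≃ ι := (Fintype.equivFinOfCardEq hι).symm
  let pos : ι → ℕ := Sum.elim (fun x => x.1.1) (fun x => x.1.1)
  let qq : ι → Bool := Sum.elim (fun _ => false) (fun _ => true)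
  let xx : ι → E := Sum.elim (fun x => um x.1 x.2) (fun x => ul x.1.1 (Fin.cast (hδ _) x.2))
  let vv : ι → E := Sum.elim (fun _ => 0) (fun x => uk x.1.1 x.2)
  let z : ℕ → ι → E := fun j l =>
    if qq l = true ∧ pos l < j then tp F G (pos l + 1) j (vv l) else tp F G (pos l) j (xx l)
  have hposn : ∀ l, pos l ≤ n := fun l => by
    rcases l with ⟨j, _⟩ | ⟨i, _⟩
    · exact Nat.lt_succ_iff.1 j.2
    · exact i.2.le
  have hxW : ∀ l, xx l ∈ W (pos l) := fun l => by
    rcases l with ⟨j, c⟩ | ⟨i, c⟩
    · exact (hS j.1 (Nat.lt_succ_iff.1 j.2)).le (subset_span (humS _ _))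
    · exact hBW _ (hul i.1 _)
  have hpair : ∀ l, qq l = true → pos l < n ∧ F (pos l) (xx l) = 0 ∧ G (pos l) (vv l) = 0 ∧
      vv l ∈ W (pos l + 1) := fun l hl => by
    rcases l with ⟨j, c⟩ | ⟨i, c⟩
    · simp [qq] at hl
    · exact ⟨i.2, hBker _ _ (hul i.1 _), hAker _ _ (huk i.1 _), hAW _ (huk i.1 _)⟩
  -- upward and downward parts
  let up' : ℕ → Submodule L E := fun j =>
    span L (z j '' {l | if qq l = true then pos l < j else pos l ≤ j})
  let dn' : ℕ → Submodule L E := fun j => span L (z j '' {l | j ≤ pos l})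
  have hum : ∀ j : Fin (n + 1), span L (Set.range (um j)) ≤ up' j.1 ∧ span L (Set.range (um j)) ≤ dn' j.1 := by
    intro j
    constructor <;> refine span_le.2 ?_ <;> rintro _ ⟨c, rfl⟩ <;>
      exact subset_span ⟨Sum.inl ⟨j, c⟩, by simp [qq, pos], by simp [z, qq, pos, xx]⟩
  have hWeq : ∀ j : Fin (n + 1), W j.1 = A j.1 ⊔ B j.1 ⊔ span L (Set.range (um j)) := fun j => (humsp j).symm
  have hup : ∀ j ≤ n, A j ≤ up' j := by
    intro j
    induction j with
    | zero => exact fun _ => hA0.le.trans bot_le
    | succ j ih =>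
      intro hj
      have hmap : (up' j).map (F j) ≤ up' (j + 1) := by
        rw [Submodule.map_span, span_le]
        rintro _ ⟨_, ⟨l, hl, rfl⟩, rfl⟩
        refine subset_span ⟨l, ?_, ?_⟩
        · simp only [Set.mem_setOf_eq] at hl ⊢
          split_ifs at hl ⊢ <;> omega
        · simp only [Set.mem_setOf_eq] at hl
          simp only [z]
          by_cases hq : qq l = true
          · rw [if_pos hq] at hl
            rw [if_pos ⟨hq, by omega⟩, if_pos ⟨hq, hl⟩, tp_apply_F h, if_pos (by omega : pos l + 1 ≤ j)]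
          · rw [if_neg hq] at hl
            rw [if_neg (fun h => hq h.1), if_neg (fun h => hq h.1), tp_apply_F h, if_pos hl]
      rw [← huksp j]
      refine sup_le ?_ (span_le.2 ?_)
      · rw [show W j = A j ⊔ B j ⊔ span L (Set.range (um ⟨j, by omega⟩)) from hWeq ⟨j, by omega⟩,
          Submodule.map_sup, Submodule.map_sup]
        refine sup_le (sup_le ((Submodule.map_mono (ih (by omega))).trans hmap) ?_)
          ((Submodule.map_mono (hum ⟨j, by omega⟩).1).trans hmap)
        rintro _ ⟨x, hx, rfl⟩
        rw [hBker j x hx]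
        exact zero_mem _
      · rintro _ ⟨c, rfl⟩
        exact subset_span ⟨Sum.inr ⟨⟨j, by omega⟩, c⟩, by simp [qq, pos], by simp [z, qq, pos, vv]⟩
  have hdn : ∀ k j, j + k = n → B j ≤ dn' j := by
    intro k
    induction k with
    | zero =>
      intro j hj
      obtain rfl : j = n := by omega
      simp [hB, hW.last]
    | succ k ih =>
      intro j hj
      have hmap : (dn' (j + 1)).map (G j) ≤ dn' j := by
        rw [Submodule.map_span, span_le]
        rintro _ ⟨_, ⟨l, hl, rfl⟩, rfl⟩
        simp only [Set.mem_setOf_eq] at hl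
        refine subset_span ⟨l, by simp only [Set.mem_setOf_eq]; omega, ?_⟩
        simp only [z]
        rw [if_neg (fun h => by omega), if_neg (fun h => by omega), tp_apply_G h,
          if_neg (by omega : ¬ pos l ≤ j)]
      rw [← hulsp j]
      refine sup_le ?_ (span_le.2 ?_)
      · rw [show W (j + 1) = A (j + 1) ⊔ B (j + 1) ⊔ span L (Set.range (um ⟨j + 1, by omega⟩)) from
          hWeq ⟨j + 1, by omega⟩, Submodule.map_sup, Submodule.map_sup]
        refine sup_le (sup_le ?_ ((Submodule.map_mono (ih (j + 1) (by omega))).trans hmap))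
          ((Submodule.map_mono (hum ⟨j + 1, by omega⟩).2).trans hmap)
        rintro _ ⟨x, hx, rfl⟩
        rw [hAker j x hx]
        exact zero_mem _
      · rintro _ ⟨c, rfl⟩
        refine subset_span ⟨Sum.inr ⟨⟨j, by omega⟩, Fin.cast (hδ j).symm c⟩, by simp [pos], ?_⟩
        simp [z, qq, pos, xx]
  have hspan : ∀ j ≤ n, W j = span L (Set.range (z j)) := by
    intro j hj
    refine le_antisymm ?_ (span_le.2 ?_)
    · rw [show W j = A j ⊔ B j ⊔ span L (Set.range (um ⟨j, by omega⟩)) from hWeq ⟨j, by omega⟩]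
      refine sup_le (sup_le ((hup j hj).trans ?_) ((hdn (n - j) j (by omega)).trans ?_))
        ((hum ⟨j, by omega⟩).1.trans ?_) <;> exact span_mono (Set.image_subset_range _ _)
    · rintro _ ⟨l, rfl⟩
      simp only [z]
      split_ifs with hl
      · exact tp_mem hW (hpair l hl.1).2.2.2 j
      · exact tp_mem hW (hxW l) j
  refine ⟨pos ∘ ε, qq ∘ ε, xx ∘ ε, vv ∘ ε, fun l => hposn _, fun l => hxW _, fun l => hpair _,
    fun l hl => ?_, fun hex l => ?_, fun j hj => (hspan j hj).trans (congrArg _ (ε.surjective.range_comp _).symm)⟩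
  · simp only [Function.comp_apply] at hl ⊢
    generalize ε l = y at hl ⊢
    rcases y with ⟨j, c⟩ | ⟨i, c⟩
    · exact humS j c
    · simp [qq] at hl
  · simp only [Function.comp_apply]
    generalize ε l = y
    rcases y with ⟨j, c⟩ | ⟨i, c⟩
    · rfl
    · exfalso
      have h1 : A (i.1 + 1) ≤ (W i.1).map (F i.1) := (hA1 _).le.trans (hex i.1 i.2).1
      have h2 := Submodule.finrank_mono h1
      have h3 := c.2
      simp only [δ] at h3
      omega

end GrothLib.LinkExact10
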