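import Groth.Prelude.Def_W4c1limliniiiiLG
import Groth.Agent.Lib.LinkExact10.Field
import Groth.Agent.Lib.Grass26.Chart
import Mathlib.Algebra.Category.CommAlgCat.Basic
import Mathlib.LinearAlgebra.Matrix.Rank
import Mathlib.LinearAlgebra.TensorProduct.Pi
import Mathlib.RingTheory.OrzechProperty
import Mathlib.RingTheory.Flat.LocallyFree

/-!
# Linked sub-bundles in coordinates
-/

set_option autoImplicit false
set_option linter.all false
set_option backward.isDefEq.respectTransparency false

universe u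

noncomputable section

open TensorProduct Module Submodule

namespace GrothLib.LinkExact10

variable {R : Type u} [CommRing R] {d r n : ℕ}

/-- The forward matrices, extended by the identity. -/
def Fm (f : Fin n → ((Fin d → R) →ₗ[R] (Fin d → R))) (i : ℕ) : Matrix (Fin d) (Fin d) R :=
  if h : i < n then LinearMap.toMatrix' (f ⟨i, h⟩) else 1

/-- The backward matrices, extended by the scalar. -/
def Gm (g : Fin n → ((Fin d → R) →ₗ[R] (Fin d → R))) (s : R) (i : ℕ) : Matrix (Fin d) (Fin d) R :=
  if h : i < n then LinearMap.toMatrix' (g ⟨i, h⟩) else s • 1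

variable (A : Type u) [CommRing A] [Algebra R A]

/-- The endomorphism given by a matrix, over an algebra. -/
def op : Matrix (Fin d) (Fin d) R →* Module.End A (Fin d → A) where
  toFun M := (M.map (algebraMap R A)).mulVecLin
  map_one' := by rw [Matrix.map_one _ (map_zero _) (map_one _), Matrix.mulVecLin_one]; rfl
  map_mul' M N := by rw [Matrix.map_mul, Matrix.mulVecLin_mul]; rfl

theorem op_apply (M : Matrix (Fin d) (Fin d) R) (v : Fin d → A) :
    op A M v = (M.map (algebraMap R A)).mulVec v := rfl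

theorem op_smul_one (a : R) : op A (a • (1 : Matrix (Fin d) (Fin d) R)) = algebraMap R A a • 1 := by
  refine LinearMap.ext fun v => ?_
  rw [op_apply, Matrix.map_smul' _ _ _ (map_mul _), Matrix.map_one _ (map_zero _) (map_one _),
    Matrix.smul_mulVec, Matrix.one_mulVec]
  rfl

variable {A}

theorem op_comp {B : Type u} [CommRing B] [Algebra R B] (φ : A →ₐ[R] B) (M : Matrix (Fin d) (Fin d) R)
    (v : Fin d → A) : (φ ∘ op A M v : Fin d → B) = op B M (φ ∘ v) := by
  ext j
  simp [op_apply, Matrix.mulVec, dotProduct]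

variable (A)

/-- Coordinates. -/
def cd : A ⊗[R] (Fin d → R) ≃ₗ[A] (Fin d → A) := TensorProduct.piScalarRight R A A (Fin d)

theorem cd_tmul (a : A) (x : Fin d → R) : cd A (a ⊗ₜ x) = fun j => algebraMap R A (x j) * a := by
  ext j
  simp [cd, TensorProduct.piScalarRight_apply, Algebra.smul_def]

theorem cd_baseChange (f : (Fin d → R) →ₗ[R] (Fin d → R)) (z : A ⊗[R] (Fin d → R)) :
    cd A (f.baseChange A z) = op A (LinearMap.toMatrix' f) (cd A z) := by
  induction z with
  | zero => simp
  | tmul a x =>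
    rw [LinearMap.baseChange_tmul, cd_tmul, cd_tmul, op_apply]
    ext j
    rw [← LinearMap.toMatrix'_mulVec]
    simp [Matrix.mulVec, dotProduct, Finset.sum_mul, mul_assoc]
  | add x y hx hy => simp [hx, hy]

theorem cd_chg {B : Type u} [CommRing B] [Algebra R B] (φ : A →ₐ[R] B) (z : A ⊗[R] (Fin d → R)) :
    cd B (Grass26.chg φ z) = (φ ∘ cd A z : Fin d → B) := by
  induction z with
  | zero => ext j; simp
  | tmul a x => ext j; simp [cd_tmul, Grass26.chg_tmul]
  | add x y hx hy => ext j; simp [hx, hy]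

variable {A} {k : ℕ}

/-- A point of the Grassmannian as a submodule of `A^d`. -/
def sub (N : Module.Grassmannian A (A ⊗[R] (Fin d → R)) k) : Submodule A (Fin d → A) :=
  N.toSubmodule.map (cd A).toLinearMap

theorem mem_sub {N : Module.Grassmannian A (A ⊗[R] (Fin d → R)) k} {v : Fin d → A} :
    v ∈ sub N ↔ (cd A).symm v ∈ N.toSubmodule :=
  Submodule.mem_map_equiv _

theorem sub_injective : Function.Injective (sub (R := R) (A := A) (d := d) (k := k)) := fun N N' h =>
  Module.Grassmannian.ext (Submodule.map_injective_of_injective (cd A).injective h)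

theorem span_image_comp {B : Type u} [CommRing B] [Algebra R B] (φ : A →ₐ[R] B) {ι : Type*} (w : ι → Fin d → A) :
    span B ((fun v : Fin d → A => (φ ∘ v : Fin d → B)) '' (span A (Set.range w) : Set (Fin d → A))) =
      span B (Set.range fun l => (φ ∘ w l : Fin d → B)) := by
  refine le_antisymm (span_le.2 ?_) (span_mono ?_)
  · rintro _ ⟨v, hv, rfl⟩
    induction hv using Submodule.span_induction with
    | mem x hx => obtain ⟨l, rfl⟩ := hx; exact subset_span ⟨l, rfl⟩
    | zero => exact (congrArg (· ∈ _) (funext fun j => map_zero φ)).mpr (zero_mem _)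
    | add x y _ _ hx hy =>
      have e : (φ ∘ (x + y) : Fin d → B) = φ ∘ x + φ ∘ y := funext fun j => map_add φ _ _
      show (φ ∘ (x + y) : Fin d → B) ∈ _
      rw [e]; exact add_mem hx hy
    | smul c x _ hx =>
      have e : (φ ∘ (c • x) : Fin d → B) = φ c • (φ ∘ x) := funext fun j => map_mul φ _ _
      show (φ ∘ (c • x) : Fin d → B) ∈ _
      rw [e]; exact Submodule.smul_mem _ _ hx
  · rintro _ ⟨l, rfl⟩
    exact ⟨w l, subset_span ⟨l, rfl⟩, rfl⟩

theorem sub_map {B : Type u} [CommRing B] [Algebra R B] (φ : A →ₐ[R] B)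
    (N : Module.Grassmannian A (A ⊗[R] (Fin d → R)) k) :
    sub (Module.Grassmannian.map φ N) = span B ((fun v : Fin d → A => (φ ∘ v : Fin d → B)) '' (sub N : Set (Fin d → A))) := by
  rw [sub, Grass26.map_eq_span, Submodule.map_span, sub, Submodule.map_coe, Set.image_image, Set.image_image]
  congr 1
  exact Set.image_congr fun z _ => cd_chg A φ z

theorem sub_map_span {B : Type u} [CommRing B] [Algebra R B] (φ : A →ₐ[R] B)
    (N : Module.Grassmannian A (A ⊗[R] (Fin d → R)) k) {ι : Type*} (w : ι → Fin d → A)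
    (h : sub N = span A (Set.range w)) :
    sub (Module.Grassmannian.map φ N) = span B (Set.range fun l => (φ ∘ w l : Fin d → B)) := by
  rw [sub_map, h, span_image_comp]

variable (A)

/-- The span of some coordinate vectors. -/
def cspan {m : ℕ} (J : Fin m → Fin d) : Submodule A (Fin d → A) :=
  span A (Set.range fun a => (Pi.single (J a) 1 : Fin d → A))

variable {A}

theorem comp_single {B : Type u} [CommRing B] [Algebra R B] (φ : A →ₐ[R] B) (a : Fin d) :
    (φ ∘ Pi.single a (1 : A) : Fin d → B) = Pi.single a 1 := by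
  ext j
  by_cases h : j = a <;> simp [h]

/-- The columns: coordinate vectors followed by given vectors. -/
def cols (J : Fin (d - r) → Fin d) (w : Fin r → Fin d → A) : Fin (d - r) ⊕ Fin r → Fin d → A :=
  Sum.elim (fun a => Pi.single (J a) 1) w

theorem span_cols (J : Fin (d - r) → Fin d) (w : Fin r → Fin d → A) :
    span A (Set.range (cols J w)) = cspan A J ⊔ span A (Set.range w) := by
  rw [cols, Set.Sum.elim_range, span_union, cspan]

/-- A splitting of the coordinates. -/
def colEquiv (hrd : r ≤ d) : Fin d ≃ Fin (d - r) ⊕ Fin r :=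
  (finCongr (by omega)).trans finSumFinEquiv.symm

/-- The matrix with given columns. -/
def colMat (hrd : r ≤ d) (J : Fin (d - r) → Fin d) (w : Fin r → Fin d → A) : Matrix (Fin d) (Fin d) A :=
  Matrix.of fun a j => cols J w (colEquiv hrd j) a

theorem isUnit_det_iff (hrd : r ≤ d) (J : Fin (d - r) → Fin d) (w : Fin r → Fin d → A) :
    IsUnit (colMat hrd J w).det ↔ cspan A J ⊔ span A (Set.range w) = ⊤ := by
  rw [← Matrix.isUnit_iff_isUnit_det, ← Matrix.mulVec_surjective_iff_isUnit, ← span_cols]
  have : Set.range (cols J w) = Set.range (colMat hrd J w).col := by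
    rw [← (colEquiv hrd).surjective.range_comp]; rfl
  rw [this, ← Matrix.range_mulVecLin, LinearMap.range_eq_top]
  rfl

theorem colMat_map {B : Type u} [CommRing B] [Algebra R B] (φ : A →ₐ[R] B) (hrd : r ≤ d) (J : Fin (d - r) → Fin d)
    (w : Fin r → Fin d → A) : φ (colMat hrd J w).det = (colMat hrd J fun l => (φ ∘ w l : Fin d → B)).det := by
  rw [AlgHom.map_det]
  congr 1
  ext a j
  show φ (cols J w (colEquiv hrd j) a) = cols J (fun l => (φ ∘ w l : Fin d → B)) (colEquiv hrd j) a
  rcases colEquiv hrd j with c | c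
  · exact congrFun (comp_single φ (J c)) a
  · rfl

theorem cols_bijective (hrd : r ≤ d) (J : Fin (d - r) → Fin d) (w : Fin r → Fin d → A)
    (h : cspan A J ⊔ span A (Set.range w) = ⊤) :
    Function.Bijective (Fintype.linearCombination A (cols J w)) := by
  have hs : Function.Surjective (Fintype.linearCombination A (cols J w)) := by
    rw [← LinearMap.range_eq_top, Fintype.range_linearCombination, span_cols, h]
  refine ⟨?_, hs⟩
  have h2 := OrzechProperty.injective_of_surjective_endomorphism
    ((Fintype.linearCombination A (cols J w)).comp (LinearEquiv.funCongrLeft A A (colEquiv hrd).symm).toLinearMap)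
    (hs.comp (LinearEquiv.surjective _))
  exact (EquivLike.injective_comp (LinearEquiv.funCongrLeft A A (colEquiv hrd).symm) _).1 h2

/-- Vectors completing coordinate vectors span a point of the Grassmannian. -/
theorem exists_point (hrd : r ≤ d) (J : Fin (d - r) → Fin d) (w : Fin r → Fin d → A)
    (h : cspan A J ⊔ span A (Set.range w) = ⊤) :
    ∃ N : Module.Grassmannian A (A ⊗[R] (Fin d → R)) (d - r), sub N = span A (Set.range w) := by
  let Ψ := LinearEquiv.ofBijective _ (cols_bijective hrd J w h)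
  let π : A ⊗[R] (Fin d → R) →ₗ[A] (Fin (d - r) → A) :=
    (LinearMap.funLeft A A Sum.inl).comp ((cd A).trans Ψ.symm).toLinearMap
  have hπ : Function.Surjective π :=
    (LinearMap.funLeft_surjective_of_injective A A _ Sum.inl_injective).comp ((cd A).trans Ψ.symm).surjective
  let e := π.quotKerEquivOfSurjective hπ
  refine ⟨{ toSubmodule := LinearMap.ker π
            finite_quotient := Module.Finite.equiv e.symm
            projective_quotient := Module.Projective.of_equiv e.symm
            rankAtStalk_eq := fun p => by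
              haveI : Nontrivial A := ⟨⟨0, 1, fun h => p.2.ne_top ((Ideal.eq_top_iff_one _).2 (h ▸ p.1.zero_mem))⟩⟩
              rw [Module.rankAtStalk_eq_of_equiv e, Module.rankAtStalk_eq_finrank_of_free]
              simp }, ?_⟩
  refine le_antisymm (fun v hv => ?_) (span_le.2 ?_)
  · obtain ⟨x, rfl⟩ : ∃ x, Ψ x = v := Ψ.surjective v
    have hx : ∀ a, x (Sum.inl a) = 0 := fun a => by
      have h0 : π ((cd A).symm (Ψ x)) = 0 := mem_sub.1 hv
      simpa [π] using congrFun h0 a
    show Fintype.linearCombination A (cols J w) x ∈ _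
    rw [Fintype.linearCombination_apply, Fintype.sum_sum_type]
    refine add_mem (sum_mem fun a _ => by rw [hx, zero_smul]; exact zero_mem _)
      (sum_mem fun l _ => smul_mem _ _ (subset_span ⟨l, rfl⟩))
  · rintro _ ⟨l, rfl⟩
    rw [SetLike.mem_coe, mem_sub]
    show π ((cd A).symm (w l)) = 0
    have : Ψ (Pi.single (Sum.inr l) 1) = w l := by
      show Fintype.linearCombination A (cols J w) _ = _
      rw [Fintype.linearCombination_apply_single, one_smul]
      rfl
    funext a
    simp [π, ← this]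

/-- A coordinate complement of a point meets it only in zero. -/
theorem disjoint_of_sup_eq_top (N : Module.Grassmannian A (A ⊗[R] (Fin d → R)) (d - r)) (J : Fin (d - r) → Fin d)
    (h : cspan A J ⊔ sub N = ⊤) : Disjoint (cspan A J) (sub N) := by
  let lin : (Fin (d - r) → A) →ₗ[A] (A ⊗[R] (Fin d → R)) ⧸ N.toSubmodule :=
    (N.toSubmodule.mkQ.comp (cd A).symm.toLinearMap).comp
      (Fintype.linearCombination A fun a => (Pi.single (J a) 1 : Fin d → A))
  have hs : Function.Surjective lin := by
    intro x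
    obtain ⟨z, rfl⟩ := Submodule.mkQ_surjective _ x
    obtain ⟨y, hy, y', hy', e⟩ := Submodule.mem_sup.1 (h.ge (Submodule.mem_top : cd A z ∈ ⊤))
    rw [cspan, ← Fintype.range_linearCombination] at hy
    obtain ⟨c, rfl⟩ := hy
    refine ⟨c, ?_⟩
    show N.toSubmodule.mkQ _ = N.toSubmodule.mkQ z
    rw [Submodule.mkQ_apply, Submodule.mkQ_apply, eq_comm, Submodule.Quotient.eq]
    rw [mem_sub] at hy'
    have : z = (cd A).symm ((Fintype.linearCombination A fun a => (Pi.single (J a) 1 : Fin d → A)) c) +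
        (cd A).symm y' := by rw [← map_add, e, LinearEquiv.symm_apply_apply]
    rw [this]
    simpa using hy'
  have hb : Function.Bijective lin := bijective_of_surjective_of_rankAtStalk_eq hs fun m hm => by
    haveI : Nontrivial A := ⟨⟨0, 1, fun e => hm.ne_top ((Ideal.eq_top_iff_one _).2 (e ▸ m.zero_mem))⟩⟩
    rw [N.rankAtStalk_eq, Module.rankAtStalk_eq_finrank_of_free]
    simp
  rw [Submodule.disjoint_def]
  intro v hv hv'
  rw [cspan, ← Fintype.range_linearCombination] at hv
  obtain ⟨c, rfl⟩ := hv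
  have : lin c = lin 0 := by
    rw [map_zero]
    exact (Submodule.Quotient.mk_eq_zero _).2 (mem_sub.1 hv')
  rw [hb.1 this, map_zero]

theorem eq_span_of_le (N : Module.Grassmannian A (A ⊗[R] (Fin d → R)) (d - r)) (J : Fin (d - r) → Fin d)
    (w : Fin r → Fin d → A) (hw : ∀ l, w l ∈ sub N) (h : cspan A J ⊔ span A (Set.range w) = ⊤) :
    sub N = span A (Set.range w) := by
  have hle : span A (Set.range w) ≤ sub N := span_le.2 (by rintro _ ⟨l, rfl⟩; exact hw l)
  refine le_antisymm (fun v hv => ?_) hle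
  obtain ⟨y, hy, y', hy', rfl⟩ := Submodule.mem_sup.1 (h.ge (Submodule.mem_top : v ∈ ⊤))
  have hy0 : y ∈ sub N := by simpa using sub_mem hv (hle hy')
  have := (disjoint_of_sup_eq_top N J (top_le_iff.1 (h.ge.trans (sup_le_sup_left hle _))))
  rw [Submodule.disjoint_def.1 this y hy hy0, zero_add]
  exact hy'

/-! ### Over a field -/

variable {L : Type u} [Field L] [Algebra R L]

theorem finrank_sub (hrd : r ≤ d) (N : Module.Grassmannian L (L ⊗[R] (Fin d → R)) (d - r)) :
    finrank L (sub N) = r := by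
  have h1 := N.rankAtStalk_eq ⟨⊥, Ideal.isPrime_bot⟩
  rw [Module.rankAtStalk_eq_finrank_of_free] at h1
  have h2 := Submodule.finrank_quotient_add_finrank N.toSubmodule
  have h3 : finrank L (L ⊗[R] (Fin d → R)) = d := by rw [(cd L).finrank_eq]; simp
  rw [sub, LinearEquiv.finrank_map_eq]
  simp only [Pi.natCast_def] at h1
  have h4 : finrank L (L ⊗[R] (Fin d → R) ⧸ N.toSubmodule) = d - r := h1
  have h5 := h2.trans h3
  omega

theorem exists_cspan_compl (hrd : r ≤ d) (N : Module.Grassmannian L (L ⊗[R] (Fin d → R)) (d - r)) :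
    ∃ J : Fin (d - r) → Fin d, cspan L J ⊔ sub N = ⊤ := by
  obtain ⟨v, hv, hspan⟩ := exists_compl_of_span (le_top : sub N ≤ ⊤)
    (Set.range fun a => (Pi.single a 1 : Fin d → L))
    (by
      rw [show (fun a => (Pi.single a 1 : Fin d → L)) = Pi.basisFun L (Fin d) from funext fun a => by simp]
      exact Basis.span_eq _)
  choose a ha using hv
  have hc : finrank L (⊤ : Submodule L (Fin d → L)) - finrank L (sub N) = d - r := by
    rw [finrank_top, finrank_sub hrd]; simp
  refine ⟨fun c => a (finCongr hc.symm c), ?_⟩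
  refine (sup_comm _ _).trans (Eq.trans ?_ hspan)
  rw [cspan]
  refine congrArg (sub N ⊔ span L ·) ?_
  rw [← (finCongr hc.symm).surjective.range_comp v]
  exact congrArg Set.range (funext fun c => ha _)

/-! ### Transfer of the hypotheses -/

/-- Ranks of matrices do not change under field extension. -/
theorem finrank_range_op {K : Type u} [Field K] [Algebra R K] [Algebra K L] [IsScalarTower R K L]
    (M : Matrix (Fin d) (Fin d) R) :
    finrank L (LinearMap.range (op L M)) = finrank K (LinearMap.range (op K M)) := by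
  let ψ := op K M
  set q := finrank K (LinearMap.range ψ)
  let b := Module.finBasis K (LinearMap.range ψ)
  let P : (Fin q → K) →ₗ[K] (Fin d → K) := (LinearMap.range ψ).subtype.comp b.equivFun.symm.toLinearMap
  let Q : (Fin d → K) →ₗ[K] (Fin q → K) := b.equivFun.toLinearMap.comp ψ.rangeRestrict
  obtain ⟨P', hP'⟩ := P.exists_leftInverse_of_injective (LinearMap.ker_eq_bot.2
    ((LinearMap.range ψ).injective_subtype.comp b.equivFun.symm.injective))
  obtain ⟨Q', hQ'⟩ := Q.exists_rightInverse_of_surjective (LinearMap.range_eq_top.2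
    (b.equivFun.surjective.comp ψ.surjective_rangeRestrict))
  have hPQ : M.map (algebraMap R K) = LinearMap.toMatrix' P * LinearMap.toMatrix' Q := by
    rw [← LinearMap.toMatrix'_comp,
      show P.comp Q = ψ from LinearMap.ext fun v => by
        show ((b.equivFun.symm (b.equivFun (ψ.rangeRestrict v))).1 : Fin d → K) = ψ v
        rw [LinearEquiv.symm_apply_apply]
        rfl]
    exact (LinearMap.toMatrix'_toLin' _).symm
  let m := fun {a b : ℕ} (X : Matrix (Fin a) (Fin b) K) => (X.map (algebraMap K L)).mulVecLin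
  have hcomp : ∀ {a b c : ℕ} (X : Matrix (Fin a) (Fin b) K) (Y : Matrix (Fin b) (Fin c) K),
      m (X * Y) = (m X).comp (m Y) := fun X Y => by
    simp only [m, Matrix.map_mul, Matrix.mulVecLin_mul]
  have hone : ∀ {a : ℕ}, m (1 : Matrix (Fin a) (Fin a) K) = LinearMap.id := fun {a} => by
    simp only [m, Matrix.map_one _ (map_zero _) (map_one _), Matrix.mulVecLin_one]
  have e : op L M = (m (LinearMap.toMatrix' P)).comp (m (LinearMap.toMatrix' Q)) := by
    rw [← hcomp, ← hPQ]
    simp only [m, Matrix.map_map, ← RingHom.coe_comp, ← IsScalarTower.algebraMap_eq]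
    rfl
  have hinj : Function.Injective (m (LinearMap.toMatrix' P)) := by
    refine Function.LeftInverse.injective (g := m (LinearMap.toMatrix' P')) fun v => ?_
    rw [← LinearMap.comp_apply, ← hcomp, ← LinearMap.toMatrix'_comp, hP', LinearMap.toMatrix'_id, hone]
    rfl
  have hsurj : Function.Surjective (m (LinearMap.toMatrix' Q)) := fun v => ⟨m (LinearMap.toMatrix' Q') v, by
    rw [← LinearMap.comp_apply, ← hcomp, ← LinearMap.toMatrix'_comp, hQ', LinearMap.toMatrix'_id, hone]
    rfl⟩
  rw [e, LinearMap.range_comp, LinearMap.range_eq_top.2 hsurj, Submodule.map_top,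
    LinearMap.finrank_range_of_inj hinj]
  simp

variable (f g : Fin n → ((Fin d → R) →ₗ[R] (Fin d → R))) (s : R)

/-- The hypotheses at all field valued points. -/
def LHyp : Prop :=
  ∀ (L : Type u) [Field L] [Algebra R L],
    Hyp (fun i => op (d := d) L (Fm f i)) (fun i => op L (Gm g s i)) (algebraMap R L s)

theorem Fm_mul_Gm (hI : ∀ i, (f i).comp (g i) = s • LinearMap.id ∧ (g i).comp (f i) = s • LinearMap.id) (i : ℕ) :
    Fm f i * Gm g s i = s • 1 ∧ Gm g s i * Fm f i = s • 1 := by
  unfold Fm Gm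
  split_ifs with h
  · rw [← LinearMap.toMatrix'_comp, ← LinearMap.toMatrix'_comp, (hI ⟨i, h⟩).1, (hI ⟨i, h⟩).2, map_smul,
      LinearMap.toMatrix'_id]
    exact ⟨rfl, rfl⟩
  · simp

theorem disjoint_iff_finrank {E : Type*} [AddCommGroup E] [Module L E] [FiniteDimensional L E]
    (f h : Module.End L E) : Disjoint (LinearMap.range f) (LinearMap.ker h) ↔
      finrank L (LinearMap.range (h * f)) = finrank L (LinearMap.range f) := by
  have := finrank_map_add_ker h (LinearMap.range f)
  rw [Module.End.mul_eq_comp, LinearMap.range_comp, disjoint_comm, disjoint_iff, ← Submodule.finrank_eq_zero]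
  omega

theorem lhyp_of (hI : ∀ i, (f i).comp (g i) = s • LinearMap.id ∧ (g i).comp (f i) = s • LinearMap.id)
    (H : ∀ (L : Type u) [Field L] [Algebra R L], ∃ (K : Type u) (_ : Field K) (_ : Algebra R K) (_ : Algebra K L)
      (_ : IsScalarTower R K L), (∀ i : Fin n,
        d ≤ finrank K (LinearMap.range (op K (LinearMap.toMatrix' (f i)))) +
          finrank K (LinearMap.range (op K (LinearMap.toMatrix' (g i))))) ∧
        ∀ i j : Fin n, i.val + 1 = j.val → Disjoint (LinearMap.range (op K (LinearMap.toMatrix' (f i))))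
          (LinearMap.ker (op K (LinearMap.toMatrix' (f j))))) : LHyp f g s := by
  intro L _ _
  obtain ⟨K, _, _, _, _, hII, hIII⟩ := H L
  have h1 : ∀ i, op L (Fm f i) * op L (Gm g s i) = algebraMap R L s • 1 := fun i => by
    rw [← map_mul, (Fm_mul_Gm f g s hI i).1, op_smul_one]
  have h2 : ∀ i, op L (Gm g s i) * op L (Fm f i) = algebraMap R L s • 1 := fun i => by
    rw [← map_mul, (Fm_mul_Gm f g s hI i).2, op_smul_one]
  have hker : algebraMap R L s = 0 → ∀ i, (LinearMap.ker (op L (Fm f i)) = LinearMap.range (op L (Gm g s i)) ∧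
      LinearMap.ker (op L (Gm g s i)) = LinearMap.range (op L (Fm f i))) := by
    intro hs i
    have key : ∀ φ ψ : Module.End L (Fin d → L), φ * ψ = 0 →
        d ≤ finrank L (LinearMap.range φ) + finrank L (LinearMap.range ψ) →
        LinearMap.ker φ = LinearMap.range ψ := fun φ ψ h0 hd => by
      refine (Submodule.eq_of_le_of_finrank_le (LinearMap.range_le_ker_iff.2 h0) ?_).symm
      have := LinearMap.finrank_range_add_finrank_ker φ
      simp only [Module.finrank_fin_fun] at this
      omega
    have hd : d ≤ finrank L (LinearMap.range (op L (Fm f i))) + finrank L (LinearMap.range (op L (Gm g s i))) := by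
      by_cases h : i < n
      · rw [finrank_range_op (L := L) (K := K), finrank_range_op (L := L) (K := K), Fm, Gm, dif_pos h, dif_pos h]
        exact hII ⟨i, h⟩
      · rw [Fm, dif_neg h, map_one, Module.End.one_eq_id, LinearMap.range_id, finrank_top]
        simp
    exact ⟨key _ _ (by rw [h1, hs, zero_smul]) hd, key _ _ (by rw [h2, hs, zero_smul]) (by omega)⟩
  refine ⟨h1, h2, fun i => ?_, fun hs i => (hker hs i).1, fun hs i => (hker hs i).2⟩
  by_cases h : i + 1 < n
  · rw [disjoint_iff_finrank, ← map_mul, finrank_range_op (L := L) (K := K),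
      finrank_range_op (L := L) (K := K), map_mul,
      ← disjoint_iff_finrank, Fm, Fm, dif_pos h, dif_pos (by omega : i < n)]
    exact hIII ⟨i, by omega⟩ ⟨i + 1, h⟩ rfl
  · have e : Fm f (i + 1) = 1 := by rw [Fm, dif_neg h]
    simp only [e, map_one, Module.End.one_eq_id, LinearMap.ker_id, disjoint_bot_right]

variable {f g s}

/-- The position index. -/
def idx (j : ℕ) : Fin (n + 1) := ⟨min j n, by omega⟩

/-- The subspaces of a tuple, indexed by the naturals. -/
def fam (V : Fin (n + 1) → Module.Grassmannian A (A ⊗[R] (Fin d → R)) (d - r)) (j : ℕ) :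
    Submodule A (Fin d → A) := sub (V (idx j))

theorem idx_of_lt {i : ℕ} (h : i < n) :
    idx (n := n) i = (⟨i, h⟩ : Fin n).castSucc ∧ idx (n := n) (i + 1) = (⟨i, h⟩ : Fin n).succ := by
  constructor <;> ext <;> simp [idx] <;> omega

theorem map_sub_le_iff (v : (Fin d → R) →ₗ[R] (Fin d → R))
    (N N' : Module.Grassmannian A (A ⊗[R] (Fin d → R)) k) :
    Submodule.map (v.baseChange A) N.toSubmodule ≤ N'.toSubmodule ↔
      ∀ x ∈ sub N, op A (LinearMap.toMatrix' v) x ∈ sub N' := by
  refine ⟨fun h x hx => ?_, fun h => ?_⟩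
  · obtain ⟨z, hz, rfl⟩ := hx
    exact ⟨_, h ⟨z, hz, rfl⟩, cd_baseChange A v z⟩
  · rintro _ ⟨z, hz, rfl⟩
    have := h _ ⟨z, hz, rfl⟩
    obtain ⟨y, hy, hyz⟩ := this
    have : y = v.baseChange A z := (cd A).injective (hyz.trans (cd_baseChange A v z).symm)
    exact this ▸ hy

variable (A)

theorem mem_LG (hI : ∀ i, (f i).comp (g i) = s • LinearMap.id ∧ (g i).comp (f i) = s • LinearMap.id)
    (V : Fin (n + 1) → Module.Grassmannian A (A ⊗[R] (Fin d → R)) (d - r)) :
    V ∈ W4c1limliniiii.LGPoints R d r n f g A ↔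
      (∀ i < n, ∀ x ∈ fam V i, op A (Fm f i) x ∈ fam V (i + 1)) ∧
      (∀ i < n, ∀ x ∈ fam V (i + 1), op A (Gm g s i) x ∈ fam V i) := by
  simp only [W4c1limliniiii.LGPoints, Set.mem_setOf_eq, map_sub_le_iff, fam]
  refine ⟨fun h => ⟨fun i hi => ?_, fun i hi => ?_⟩, fun h i => ?_⟩
  · rw [(idx_of_lt hi).1, (idx_of_lt hi).2, Fm, dif_pos hi]; exact (h ⟨i, hi⟩).1
  · rw [(idx_of_lt hi).1, (idx_of_lt hi).2, Gm, dif_pos hi]; exact (h ⟨i, hi⟩).2
  · have h1 := h.1 i.1 i.2
    have h2 := h.2 i.1 i.2
    rw [(idx_of_lt i.2).1, (idx_of_lt i.2).2, Fm, dif_pos i.2] at h1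
    rw [(idx_of_lt i.2).1, (idx_of_lt i.2).2, Gm, dif_pos i.2] at h2
    exact ⟨h1, h2⟩

theorem fam_mapF (hI : ∀ i, (f i).comp (g i) = s • LinearMap.id ∧ (g i).comp (f i) = s • LinearMap.id)
    {V : Fin (n + 1) → Module.Grassmannian A (A ⊗[R] (Fin d → R)) (d - r)}
    (hV : V ∈ W4c1limliniiii.LGPoints R d r n f g A) (i : ℕ) (x : Fin d → A) (hx : x ∈ fam V i) :
    op A (Fm f i) x ∈ fam V (i + 1) := by
  by_cases h : i < n
  · exact ((mem_LG A hI V).1 hV).1 i h x hx
  · rw [Fm, dif_neg h, map_one]
    have : (idx (i + 1) : Fin (n + 1)) = idx i := by ext; simp [idx]; omega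
    rw [fam, this]; exact hx

theorem fam_mapG (hI : ∀ i, (f i).comp (g i) = s • LinearMap.id ∧ (g i).comp (f i) = s • LinearMap.id)
    {V : Fin (n + 1) → Module.Grassmannian A (A ⊗[R] (Fin d → R)) (d - r)}
    (hV : V ∈ W4c1limliniiii.LGPoints R d r n f g A) (i : ℕ) (x : Fin d → A) (hx : x ∈ fam V (i + 1)) :
    op A (Gm g s i) x ∈ fam V i := by
  by_cases h : i < n
  · exact ((mem_LG A hI V).1 hV).2 i h x hx
  · rw [Gm, dif_neg h, op_smul_one]
    have : (idx (i + 1) : Fin (n + 1)) = idx i := by ext; simp [idx]; omega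
    rw [fam, this] at hx
    exact Submodule.smul_mem _ _ hx

theorem tp_mem_fam (hI : ∀ i, (f i).comp (g i) = s • LinearMap.id ∧ (g i).comp (f i) = s • LinearMap.id)
    {V : Fin (n + 1) → Module.Grassmannian A (A ⊗[R] (Fin d → R)) (d - r)}
    (hV : V ∈ W4c1limliniiii.LGPoints R d r n f g A) {a : ℕ} {x : Fin d → A} (hx : x ∈ fam V a) :
    ∀ j, op A (tp (Fm f) (Gm g s) a j) x ∈ fam V j := by
  intro j
  rcases le_or_gt a j with h | h
  · induction j, h using Nat.le_induction with
    | base => simpa using hx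
    | succ j hj ih => rw [tp_succ _ _ hj, map_mul]; exact fam_mapF A hI hV j _ ih
  · obtain ⟨k, rfl⟩ := Nat.exists_eq_add_of_le h.le
    clear h
    induction k generalizing j with
    | zero => simpa using hx
    | succ k ih =>
      rw [tp_of_lt _ _ (by omega), map_mul]
      refine fam_mapG A hI hV j _ ?_
      have e : j + (k + 1) = j + 1 + k := by omega
      rw [e] at hx ⊢
      exact ih (j + 1) hx

variable {A}

theorem linked_fam (hrd : r ≤ d) (hI : ∀ i, (f i).comp (g i) = s • LinearMap.id ∧ (g i).comp (f i) = s • LinearMap.id)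
    {V : Fin (n + 1) → Module.Grassmannian L (L ⊗[R] (Fin d → R)) (d - r)}
    (hV : V ∈ W4c1limliniiii.LGPoints R d r n f g L) :
    Linked (fun i => op L (Fm f i)) (fun i => op L (Gm g s i)) n r (fam V) where
  mapF := fam_mapF L hI hV
  mapG := fam_mapG L hI hV
  rank i := finrank_sub hrd _
  last := by
    show LinearMap.ker (op L (Fm f n)) = ⊥
    rw [Fm, dif_neg (lt_irrefl n), map_one, Module.End.one_eq_id, LinearMap.ker_id]

theorem isExact_iff (V : Fin (n + 1) → Module.Grassmannian L (L ⊗[R] (Fin d → R)) (d - r)) :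
    W4c1limliniiii.IsExact R d r n f g L V ↔
      Ex (fun i => op L (Fm f i)) (fun i => op L (Gm g s i)) n (fam V) := by
  have key : ∀ (u v : (Fin d → R) →ₗ[R] (Fin d → R)) (N N' : Module.Grassmannian L (L ⊗[R] (Fin d → R)) (d - r)),
      LinearMap.ker (u.baseChange L) ⊓ N.toSubmodule ≤ Submodule.map (v.baseChange L) N'.toSubmodule ↔
      LinearMap.ker (op L (LinearMap.toMatrix' u)) ⊓ sub N ≤ (sub N').map (op L (LinearMap.toMatrix' v)) := by
    intro u v N N'
    constructor
    · rintro h _ ⟨h0, z, hz, rfl⟩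
      obtain ⟨y, hy, hyz⟩ := h ⟨(cd L).injective (by
        rw [cd_baseChange]; exact h0.trans (map_zero _).symm), hz⟩
      exact ⟨cd L y, ⟨y, hy, rfl⟩, by rw [← cd_baseChange, hyz]; rfl⟩
    · rintro h z ⟨h0, hz⟩
      obtain ⟨_, ⟨y, hy, rfl⟩, hyz⟩ := h (show cd L z ∈ _ from ⟨by
        show op L _ (cd L z) = 0
        rw [← cd_baseChange, LinearMap.mem_ker.1 h0, map_zero], z, hz, rfl⟩)
      exact ⟨y, hy, (cd L).injective (by rw [cd_baseChange]; exact hyz)⟩
  refine ⟨fun h i hi => ?_, fun h i => ?_⟩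
  · simp only [fam, (idx_of_lt hi).1, (idx_of_lt hi).2, Fm, Gm, dif_pos hi]
    exact ⟨(key _ _ _ _).1 (h ⟨i, hi⟩).1, (key _ _ _ _).1 (h ⟨i, hi⟩).2⟩
  · have := h i.1 i.2
    simp only [fam, (idx_of_lt i.2).1, (idx_of_lt i.2).2, Fm, Gm, dif_pos i.2] at this
    exact ⟨(key _ _ _ _).2 this.1, (key _ _ _ _).2 this.2⟩

end GrothLib.LinkExact10
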