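import Groth.Agent.Lib.LinkExact10.Local
import Groth.Agent.Lib.Grass26.Smooth
import Groth.Agent.Lib.LinkGr10.Basic
import Groth.Agent.Lib.Dim.Scheme
import Mathlib.RingTheory.KrullDimension.Polynomial

/-!
# The exact locus in a linked Grassmannian
-/

set_option autoImplicit false
set_option linter.all false
set_option backward.isDefEq.respectTransparency false

universe u

noncomputable section

open CategoryTheory AlgebraicGeometry TensorProduct Submodule Topology

namespace GrothLib.LinkExact10

open GrothLib.Grass26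

variable {R : Type u} [CommRing R] {d r n : ℕ} {f g : Fin n → ((Fin d → R) →ₗ[R] (Fin d → R))} {s : R}

/-- A scheme with the functor of points of a linked Grassmannian is proper over the base. -/
theorem isProper_of_points (X : Over (Spec (CommRingCat.of R)))
    (e : ∀ A : CommAlgCat.{u} R,
      (Over.mk (Spec.map (CommRingCat.ofHom (algebraMap R A))) ⟶ X) ≃ W4c1limliniiii.LGPoints R d r n f g A)
    (he : ∀ (A B : CommAlgCat.{u} R) (φ : A ⟶ B)
      (x : Over.mk (Spec.map (CommRingCat.ofHom (algebraMap R A))) ⟶ X)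
      (x' : Over.mk (Spec.map (CommRingCat.ofHom (algebraMap R B))) ⟶ X),
      x'.left = Spec.map (CommRingCat.ofHom φ.hom.toRingHom) ≫ x.left →
        ∀ i, (e B x').1 i = Module.Grassmannian.map φ.hom ((e A x).1 i)) : IsProper X.hom := by
  obtain ⟨X₀, e₀, he₀, hX₀⟩ := LinkGr10.exists_rep d r n f g
  have nat : ∀ {Y Y' : Over (Spec (CommRingCat.of R))}
      (a : ∀ A : CommAlgCat.{u} R, Pt Y A ≃ W4c1limliniiii.LGPoints R d r n f g A)
      (a' : ∀ A : CommAlgCat.{u} R, Pt Y' A ≃ W4c1limliniiii.LGPoints R d r n f g A),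
      (∀ (A B : CommAlgCat.{u} R) (φ : A ⟶ B) (x : Pt Y A) (x' : Pt Y B),
        x'.left = Spec.map (CommRingCat.ofHom φ.hom.toRingHom) ≫ x.left →
          ∀ i, (a B x').1 i = Module.Grassmannian.map φ.hom ((a A x).1 i)) →
      (∀ (A B : CommAlgCat.{u} R) (φ : A ⟶ B) (x : Pt Y' A) (x' : Pt Y' B),
        x'.left = Spec.map (CommRingCat.ofHom φ.hom.toRingHom) ≫ x.left →
          ∀ i, (a' B x').1 i = Module.Grassmannian.map φ.hom ((a' A x).1 i)) →
      ∃ θ : Y ⟶ Y', ∀ A (x : Pt Y A), x ≫ θ = (a' A).symm (a A x) := by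
    intro Y Y' a a' ha ha'
    refine exists_hom_of_points (fun A x => (a' A).symm (a A x)) fun A B φ x x' hx => ?_
    have h : (a' B).symm (a B x') = res φ ((a' A).symm (a A x)) := (a' B).injective (Subtype.ext (funext fun i => by
      rw [Equiv.apply_symm_apply, ha' A B φ _ (res φ _) rfl, Equiv.apply_symm_apply, ha A B φ x x' hx]))
    exact congrArg CategoryTheory.Over.Hom.left h
  obtain ⟨a, ha⟩ := nat e e₀ he he₀
  obtain ⟨b, hb⟩ := nat e₀ e he₀ he
  have hab : a ≫ b = 𝟙 X := hom_ext_of_points fun A x => by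
    rw [← Category.assoc, ha, hb, Equiv.apply_symm_apply, Equiv.symm_apply_apply, Category.comp_id]
  have hba : b ≫ a = 𝟙 X₀ := hom_ext_of_points fun A x => by
    rw [← Category.assoc, hb, ha, Equiv.apply_symm_apply, Equiv.symm_apply_apply, Category.comp_id]
  haveI : IsIso a.left := ⟨b.left, congrArg CategoryTheory.Over.Hom.left hab, congrArg CategoryTheory.Over.Hom.left hba⟩
  haveI := hX₀
  rw [← Over.w a]
  infer_instance

variable {L : Type u} [Field L] [Algebra R L]

/-- The hypotheses over a field. -/
theorem lhyp_field {k : Type u} [Field k] {f g : Fin n → ((Fin d → k) →ₗ[k] (Fin d → k))} {s : k}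
    (hI : ∀ i, (f i).comp (g i) = s • LinearMap.id ∧ (g i).comp (f i) = s • LinearMap.id)
    (hII : ∀ i, d ≤ Module.finrank k (LinearMap.range (f i)) + Module.finrank k (LinearMap.range (g i)))
    (hIII : ∀ i j : Fin n, i.val + 1 = j.val →
      LinearMap.range (f i) ⊓ LinearMap.ker (f j) = ⊥ ∧
        LinearMap.range (g j) ⊓ LinearMap.ker (g i) = ⊥) : LHyp f g s := by
  have hop : ∀ v : (Fin d → k) →ₗ[k] (Fin d → k), op k (LinearMap.toMatrix' v) = v := fun v =>
    LinearMap.ext fun w => by
      rw [op_apply, Algebra.algebraMap_self, RingHom.coe_id, Matrix.map_id]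
      exact LinearMap.toMatrix'_mulVec _ _
  refine lhyp_of f g s hI fun L _ _ => ⟨k, inferInstance, inferInstance, inferInstance, inferInstance,
    fun i => ?_, fun i j h => ?_⟩
  · rw [hop, hop]; exact hII i
  · rw [hop, hop]; exact disjoint_iff.2 (hIII i j h).1

/-- The hypotheses from the residue fields. -/
theorem lhyp_domain (hI : ∀ i, (f i).comp (g i) = s • LinearMap.id ∧ (g i).comp (f i) = s • LinearMap.id)
    (hII : ∀ (P : Ideal R) [P.IsPrime], ∀ i,
      d ≤ Module.finrank P.ResidueField (LinearMap.range ((f i).baseChange P.ResidueField)) +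
        Module.finrank P.ResidueField (LinearMap.range ((g i).baseChange P.ResidueField)))
    (hIII : ∀ (P : Ideal R) [P.IsPrime], ∀ i j : Fin n, i.val + 1 = j.val →
      LinearMap.range ((f i).baseChange P.ResidueField) ⊓
          LinearMap.ker ((f j).baseChange P.ResidueField) = ⊥ ∧
        LinearMap.range ((g j).baseChange P.ResidueField) ⊓
          LinearMap.ker ((g i).baseChange P.ResidueField) = ⊥) : LHyp f g s := by
  refine lhyp_of f g s hI fun L _ _ => ?_
  let P := RingHom.ker (algebraMap R L)
  haveI : P.IsPrime := RingHom.ker_isPrime _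
  let K := P.ResidueField
  let φ : K →+* L := IsFractionRing.lift (RingHom.kerLift_injective (algebraMap R L))
  letI : Algebra K L := φ.toAlgebra
  haveI : IsScalarTower R K L := IsScalarTower.of_algebraMap_eq fun x => by
    show algebraMap R L x = φ (algebraMap R K x)
    rw [← Ideal.algebraMap_quotient_residueField_mk, IsFractionRing.lift_algebraMap]
    rfl
  have hr : ∀ v : (Fin d → R) →ₗ[R] (Fin d → R),
      LinearMap.range (op K (LinearMap.toMatrix' v)) = (LinearMap.range (v.baseChange K)).map (cd K).toLinearMap := by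
    intro v
    ext y
    constructor
    · rintro ⟨z, rfl⟩
      exact ⟨v.baseChange K ((cd K).symm z), ⟨_, rfl⟩, (cd_baseChange K v _).trans (by simp)⟩
    · rintro ⟨_, ⟨z, rfl⟩, rfl⟩
      exact ⟨cd K z, (cd_baseChange K v z).symm⟩
  have hk : ∀ v : (Fin d → R) →ₗ[R] (Fin d → R),
      LinearMap.ker (op K (LinearMap.toMatrix' v)) = (LinearMap.ker (v.baseChange K)).map (cd K).toLinearMap := by
    intro v
    ext y
    rw [Submodule.mem_map_equiv, LinearMap.mem_ker, LinearMap.mem_ker, ← (cd K).map_eq_zero_iff,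
      cd_baseChange, LinearEquiv.apply_symm_apply]
  refine ⟨K, inferInstance, inferInstance, inferInstance, inferInstance, fun i => ?_, fun i j h => ?_⟩
  · rw [hr, hr, LinearEquiv.finrank_map_eq, LinearEquiv.finrank_map_eq]
    exact hII P i
  · rw [hr, hk]
    rw [disjoint_iff, ← Submodule.map_inf (cd K).toLinearMap (cd K).injective, (hIII P i j h).1, Submodule.map_bot]

variable (X : Over (Spec (CommRingCat.of R)))
  (e : ∀ A : CommAlgCat.{u} R,
    (Over.mk (Spec.map (CommRingCat.ofHom (algebraMap R A))) ⟶ X) ≃ W4c1limliniiii.LGPoints R d r n f g A)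

/-- The point of a field valued point. -/
def pnt {X : Over (Spec (CommRingCat.of R))} (x : Pt X (CommAlgCat.of R L)) : X.left :=
  x.left (default : PrimeSpectrum L)

theorem range_eq_pnt {X : Over (Spec (CommRingCat.of R))} (x : Pt X (CommAlgCat.of R L)) :
    Set.range x.left = {pnt x} := by
  ext q
  constructor
  · rintro ⟨p, rfl⟩
    exact congrArg x.left (Subsingleton.elim (α := PrimeSpectrum L) p (default : PrimeSpectrum L))
  · rintro rfl
    exact ⟨_, rfl⟩

theorem exists_pnt_eq {X : Over (Spec (CommRingCat.of R))} (q : X.left) :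
    ∃ (L : Type u) (_ : Field L) (_ : Algebra R L) (x : Pt X (CommAlgCat.of R L)), pnt x = q := by
  obtain ⟨ρ, hρ⟩ : ∃ ρ, Spec.map ρ = X.left.fromSpecResidueField q ≫ X.hom := Spec.map_surjective _
  letI : Algebra R (X.left.residueField q) := ρ.hom.toAlgebra
  exact ⟨X.left.residueField q, inferInstance, inferInstance,
    Over.homMk (X.left.fromSpecResidueField q) hρ.symm, X.left.fromSpecResidueField_apply q _⟩

variable (hrd : r ≤ d) (hI : ∀ i, (f i).comp (g i) = s • LinearMap.id ∧ (g i).comp (f i) = s • LinearMap.id)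

/-- The image of a chart. -/
def crange (ι : Idx d r n) : Set X.left := Set.range (chartHom X e hrd hI ι).left

/-- The exact locus. -/
def exLocus : Set X.left := ⋃ ι : Idx d r n, crange X e hrd hI ι

variable {X e}
variable (he : ∀ (A B : CommAlgCat.{u} R) (φ : A ⟶ B)
      (x : Over.mk (Spec.map (CommRingCat.ofHom (algebraMap R A))) ⟶ X)
      (x' : Over.mk (Spec.map (CommRingCat.ofHom (algebraMap R B))) ⟶ X),
      x'.left = Spec.map (CommRingCat.ofHom φ.hom.toRingHom) ≫ x.left →
        ∀ i, (e B x').1 i = Module.Grassmannian.map φ.hom ((e A x).1 i))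

include he in
theorem isOpenImmersion_chart (ι : Idx d r n) : IsOpenImmersion (chartHom X e hrd hI ι).left := by
  haveI := isProper_of_points X e he
  exact isOpenImmersion_chartHom he hrd hI ι

include he in
theorem isOpen_crange (ι : Idx d r n) : IsOpen (crange X e hrd hI ι) := by
  haveI := isOpenImmersion_chart hrd hI he ι
  exact (chartHom X e hrd hI ι).left.isOpenEmbedding.isOpen_range

include he in
theorem isOpen_exLocus : IsOpen (exLocus X e hrd hI) := isOpen_iUnion fun ι => isOpen_crange hrd hI he ι

include he in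
theorem pnt_mem_crange_iff (ι : Idx d r n) (x : Pt X (CommAlgCat.of R L)) :
    pnt x ∈ crange X e hrd hI ι ↔ ∃ c, Good f g s ι c ∧ Mem f g s ι c (tup X e x) := by
  rw [← exists_comp_eq_iff he hrd hI ι x]
  constructor
  · intro h
    haveI := isOpenImmersion_chart hrd hI he ι
    have hr : Set.range x.left ⊆ Set.range (chartHom X e hrd hI ι).left := by
      rw [range_eq_pnt]; exact Set.singleton_subset_iff.2 h
    refine ⟨Over.homMk (IsOpenImmersion.lift (chartHom X e hrd hI ι).left x.left hr) ?_, ?_⟩
    · refine Eq.trans ?_ (Over.w x)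
      show _ ≫ Spec.map _ = _
      conv_rhs => rw [← IsOpenImmersion.lift_fac (chartHom X e hrd hI ι).left x.left hr, Category.assoc, Over.w]
      rfl
    · ext1
      exact IsOpenImmersion.lift_fac _ _ _
  · rintro ⟨z, rfl⟩
    exact ⟨z.left (default : PrimeSpectrum L), rfl⟩

variable (LH : LHyp f g s)

include he LH in
theorem pnt_mem_exLocus_iff (x : Pt X (CommAlgCat.of R L)) :
    pnt x ∈ exLocus X e hrd hI ↔ W4c1limliniiii.IsExact R d r n f g L (tup X e x) := by
  rw [exLocus, Set.mem_iUnion]
  simp only [pnt_mem_crange_iff hrd hI he]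
  constructor
  · rintro ⟨ι, c, -, hm⟩
    exact isExact_of_mem hrd hI LH (e _ x).2 hm
  · intro h
    obtain ⟨ι, c, -, hc⟩ := exists_chart hrd hI LH (e _ x).2 (Or.inl h)
    exact ⟨ι, c, hc⟩

include he LH in
theorem exists_specializes_of_deform (x : Pt X (CommAlgCat.of R L))
    (V' : W4c1limliniiii.LGPoints R d r n f g (PowerSeries L))
    (hred : (fun i => Module.Grassmannian.map (cc R L) (V'.1 i)) = tup X e x) :
    ∃ y : Pt X (CommAlgCat.of R (FractionRing (PowerSeries L))),
      tup X e y = (fun i => Module.Grassmannian.map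
        (IsScalarTower.toAlgHom R (PowerSeries L) (FractionRing (PowerSeries L))) (V'.1 i)) ∧
      pnt y ⤳ pnt x := by
  let x' : Pt X (CommAlgCat.of R (PowerSeries L)) := (e _).symm V'
  let π : CommAlgCat.of R (PowerSeries L) ⟶ CommAlgCat.of R L := CommAlgCat.ofHom (cc R L)
  let ψ : CommAlgCat.of R (PowerSeries L) ⟶ CommAlgCat.of R (FractionRing (PowerSeries L)) :=
    CommAlgCat.ofHom (IsScalarTower.toAlgHom R (PowerSeries L) (FractionRing (PowerSeries L)))
  have hx' : tup X e x' = V'.1 := by rw [tup, Equiv.apply_symm_apply]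
  have hx : res π x' = x := (e _).injective (Subtype.ext (by
    show tup X e (res π x') = tup X e x
    rw [tup_res he, hx', ← hred]
    rfl))
  refine ⟨res ψ x', by rw [tup_res he, hx']; rfl, ?_⟩
  rw [← hx]
  have hsp : (Spec.map (CommRingCat.ofHom ψ.hom.toRingHom)) (default : PrimeSpectrum (FractionRing (PowerSeries L))) ⤳
      (Spec.map (CommRingCat.ofHom π.hom.toRingHom)) (default : PrimeSpectrum L) := by
    refine (PrimeSpectrum.le_iff_specializes _ _).1 ?_
    intro a ha
    have h0 : algebraMap (PowerSeries L) (FractionRing (PowerSeries L)) a = 0 := by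
      have : (default : PrimeSpectrum (FractionRing (PowerSeries L))).asIdeal = ⊥ :=
        (Ideal.eq_bot_or_top _).resolve_right (default : PrimeSpectrum (FractionRing (PowerSeries L))).2.ne_top
      exact (Ideal.mem_bot).1 (this ▸ ha)
    rw [IsFractionRing.injective (PowerSeries L) (FractionRing (PowerSeries L)) (h0.trans (map_zero _).symm)]
    exact zero_mem _
  exact hsp.map x'.left.continuous

include he LH in
/-- Every point has a generalisation in the exact locus. -/
theorem exists_specializes (q : X.left) : ∃ q' ∈ exLocus X e hrd hI, q' ⤳ q := by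
  obtain ⟨L, _, _, x, rfl⟩ := exists_pnt_eq q
  by_cases hs : algebraMap R L s = 0
  · obtain ⟨q₀, p₀, -, -, hdef⟩ := exists_deform hrd hI LH (e _ x).2 hs
    obtain ⟨V', hred, hex, -⟩ := hdef fun _ => false
    obtain ⟨y, hy, hsp⟩ := exists_specializes_of_deform he LH x V' hred
    exact ⟨pnt y, (pnt_mem_exLocus_iff hrd hI he LH y).2 (hy ▸ hex), hsp⟩
  · exact ⟨pnt x, (pnt_mem_exLocus_iff hrd hI he LH x).2 (isExact_of_ne_zero hrd hI LH (e _ x).2 hs),
      specializes_rfl⟩

include he LH in
theorem dense_exLocus : Dense (exLocus X e hrd hI) := fun q => by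
  obtain ⟨q', hq', hsp⟩ := exists_specializes hrd hI he LH q
  exact closure_mono (Set.singleton_subset_iff.2 hq') hsp.mem_closure

theorem isDomain_cRing [IsDomain R] {ι : Idx d r n} (h : (crange X e hrd hI ι).Nonempty) :
    IsDomain (cRing f g s hrd ι) ∧
      Dprod f g s hrd ι (fun l a => (MvPolynomial.X (l, a) : MvPolynomial (Fin r × Fin (d - r)) R)) ≠ 0 ∧
      Function.Injective (algebraMap R (cRing f g s hrd ι)) := by
  obtain ⟨_, z, -⟩ := h
  haveI : Nontrivial (cRing f g s hrd ι) := PrimeSpectrum.nonempty_iff_nontrivial.1 ⟨(z : PrimeSpectrum _)⟩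
  have hD : Dprod f g s hrd ι (fun l a => (MvPolynomial.X (l, a) : MvPolynomial (Fin r × Fin (d - r)) R)) ≠ 0 := by
    intro h0
    have := IsLocalization.Away.algebraMap_isUnit (S := cRing f g s hrd ι)
      (Dprod f g s hrd ι (fun l a => (MvPolynomial.X (l, a) : MvPolynomial (Fin r × Fin (d - r)) R)))
    have hz : algebraMap (MvPolynomial (Fin r × Fin (d - r)) R) (cRing f g s hrd ι)
        (Dprod f g s hrd ι (fun l a => (MvPolynomial.X (l, a) : MvPolynomial (Fin r × Fin (d - r)) R))) = 0 :=
      (congrArg _ h0).trans (map_zero _)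
    rw [hz] at this
    exact not_isUnit_zero this
  have hle := powers_le_nonZeroDivisors_of_noZeroDivisors hD
  refine ⟨IsLocalization.isDomain_of_le_nonZeroDivisors (S := cRing f g s hrd ι) hle, hD, ?_⟩
  rw [IsScalarTower.algebraMap_eq R (MvPolynomial (Fin r × Fin (d - r)) R) (cRing f g s hrd ι)]
  exact (IsLocalization.injective (cRing f g s hrd ι) hle).comp (MvPolynomial.C_injective _ _)

theorem isIrreducible_crange [IsDomain R] {ι : Idx d r n} (h : (crange X e hrd hI ι).Nonempty) :
    IsIrreducible (crange X e hrd hI ι) := by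
  haveI := (isDomain_cRing hrd hI h).1
  haveI : IrreducibleSpace (Over.mk (Spec.map (CommRingCat.ofHom (algebraMap R (cRing f g s hrd ι))))).left :=
    inferInstanceAs (IrreducibleSpace (PrimeSpectrum (cRing f g s hrd ι)))
  rw [crange, ← Set.image_univ]
  exact (IrreducibleSpace.isIrreducible_univ _).image _ (chartHom X e hrd hI ι).left.continuous.continuousOn

include he in
theorem component_eq_of_mem [IsDomain R] {Z : Set X.left} (hZ : Z ∈ irreducibleComponents X.left) {ι : Idx d r n}
    (h : (Z ∩ crange X e hrd hI ι).Nonempty) : Z = closure (crange X e hrd hI ι) := by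
  have h1 : Z ⊆ closure (crange X e hrd hI ι) :=
    (subset_closure_inter_of_isPreirreducible_of_isOpen hZ.1.2 (isOpen_crange hrd hI he ι) h).trans
      (closure_mono Set.inter_subset_right)
  exact subset_antisymm h1 (hZ.2 ((isIrreducible_crange hrd hI (h.mono Set.inter_subset_right)).closure) h1)

include he LH in
theorem exists_component_eq [IsDomain R] {Z : Set X.left} (hZ : Z ∈ irreducibleComponents X.left) :
    ∃ ι : Idx d r n, (Z ∩ crange X e hrd hI ι).Nonempty ∧ Z = closure (crange X e hrd hI ι) := by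
  have hξ : IsGenericPoint hZ.1.genericPoint Z := by
    simpa [closure_eq_iff_isClosed.2 (isClosed_of_mem_irreducibleComponents _ hZ)] using
      hZ.1.isGenericPoint_genericPoint_closure
  obtain ⟨q', hq', hsp⟩ := exists_specializes hrd hI he LH hZ.1.genericPoint
  have hq'Z : q' ∈ Z := by
    have h1 : Z ⊆ closure {q'} := hξ.def ▸ closure_minimal (Set.singleton_subset_iff.2 hsp.mem_closure) isClosed_closure
    exact hZ.2 isIrreducible_singleton.closure h1 (subset_closure rfl)
  obtain ⟨ι, hι⟩ := Set.mem_iUnion.1 hq'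
  exact ⟨ι, ⟨q', hq'Z, hι⟩, component_eq_of_mem hrd hI he hZ ⟨q', hq'Z, hι⟩⟩

include he in
theorem locallyOfFiniteType : LocallyOfFiniteType X.hom := by
  haveI := isProper_of_points X e he
  infer_instance

include he in
/-- The morphism is formally smooth on charts. -/
theorem formallySmooth_of_mem [IsNoetherianRing R] (ι : Idx d r n) {q : X.left} (h : q ∈ crange X e hrd hI ι) :
    LocallyOfFinitePresentation X.hom ∧ (X.hom.stalkMap q).hom.FormallySmooth := by
  haveI := isOpenImmersion_chart hrd hI he ι
  haveI := isProper_of_points X e he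
  have hfp : LocallyOfFinitePresentation X.hom := by
    rw [HasRingHomProperty.eq_affineLocally @LocallyOfFinitePresentation, affineLocally_iff_forall_isAffineOpen]
    intro U hU V hV hUV
    haveI : IsLocallyNoetherian (Spec (CommRingCat.of R)) := inferInstance
    haveI : IsNoetherianRing Γ(Spec (CommRingCat.of R), U) := IsLocallyNoetherian.component_noetherian ⟨U, hU⟩
    exact RingHom.FinitePresentation.of_finiteType.1 (LocallyOfFiniteType.finiteType_appLE X.hom hU hV hUV)
  refine ⟨hfp, ?_⟩
  haveI : Smooth ((chartHom X e hrd hI ι).left ≫ X.hom) := by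
    rw [Over.w]
    show Smooth (Spec.map _)
    rw [HasRingHomProperty.Spec_iff (P := @Smooth)]
    haveI := mvPolynomial_standardSmooth R (r * (d - r))
    haveI : Algebra.IsStandardSmoothOfRelativeDimension (r * (d - r)) R (MvPolynomial (Fin r × Fin (d - r)) R) :=
      Algebra.IsStandardSmoothOfRelativeDimension.of_algEquiv (r * (d - r))
        (MvPolynomial.renameEquiv R finProdFinEquiv).symm
    haveI : Algebra.IsStandardSmooth R (MvPolynomial (Fin r × Fin (d - r)) R) :=
      Algebra.IsStandardSmoothOfRelativeDimension.isStandardSmooth (r * (d - r))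
    haveI : Algebra.IsStandardSmooth (MvPolynomial (Fin r × Fin (d - r)) R) (cRing f g s hrd ι) :=
      Algebra.IsStandardSmooth.localization_away (Dprod f g s hrd ι
        (fun l a => (MvPolynomial.X (l, a) : MvPolynomial (Fin r × Fin (d - r)) R)))
    haveI : Algebra.IsStandardSmooth R (cRing f g s hrd ι) :=
      Algebra.IsStandardSmooth.trans R (MvPolynomial (Fin r × Fin (d - r)) R) _
    exact RingHom.smooth_algebraMap.2 inferInstance
  obtain ⟨z, rfl⟩ := h
  have hz : z ∈ ((chartHom X e hrd hI ι).left ≫ X.hom).smoothLocus := by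
    rw [Scheme.Hom.smoothLocus_eq_top]; trivial
  rw [← Scheme.Hom.preimage_smoothLocus_eq] at hz
  exact hz

end GrothLib.LinkExact10
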