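import Groth.Agent.Lib.LinkExact10.Chart
import Mathlib.RingTheory.PowerSeries.Inverse
import Mathlib.RingTheory.Localization.FractionRing

/-!
# Field valued points and their deformations to exact ones
-/

set_option autoImplicit false
set_option linter.all false
set_option backward.isDefEq.respectTransparency false

universe u

noncomputable section

open TensorProduct Submodule Module

namespace GrothLib.LinkExact10

variable {R : Type u} [CommRing R] {d r n : ℕ} {f g : Fin n → ((Fin d → R) →ₗ[R] (Fin d → R))} {s : R}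
  {L : Type u} [Field L] [Algebra R L]
  {V : Fin (n + 1) → Module.Grassmannian L (L ⊗[R] (Fin d → R)) (d - r)}

theorem tp_op (a j : ℕ) (x : Fin d → L) :
    tp (fun i => op L (Fm f i)) (fun i => op L (Gm g s i)) a j x = op L (tp (Fm f) (Gm g s) a j) x := by
  rw [map_tp (op (R := R) (d := d) L)]

theorem fam_eq (V : Fin (n + 1) → Module.Grassmannian L (L ⊗[R] (Fin d → R)) (d - r)) (j : Fin (n + 1)) :
    fam V j.1 = sub (V j) := by
  rw [fam, idx_fin]

theorem Mem.isFrame {ι : Idx d r n} {c : Fin r → Fin (d - r) → L} (h : Mem f g s ι c V) :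
    IsFrame (fun i => op L (Fm f i)) (fun i => op L (Gm g s i)) n (fun l => (ι.p l).1) (gvec ι c) (fam V) := by
  intro j hj
  rw [fam_eq V ⟨j, Nat.lt_succ_iff.2 hj⟩, h ⟨j, Nat.lt_succ_iff.2 hj⟩]
  simp only [tp_op]
  rfl

theorem isExact_of_mem (hrd : r ≤ d)
    (hI : ∀ i, (f i).comp (g i) = s • LinearMap.id ∧ (g i).comp (f i) = s • LinearMap.id) (LH : LHyp f g s)
    (hV : V ∈ W4c1limliniiii.LGPoints R d r n f g L) {ι : Idx d r n} {c : Fin r → Fin (d - r) → L}
    (h : Mem f g s ι c V) : W4c1limliniiii.IsExact R d r n f g L V :=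
  (isExact_iff V).2 (ex_of_frame (LH L) (linked_fam hrd hI hV) h.isFrame)

/-- The number of positions up to `i`. -/
def cnt (p : Fin r → ℕ) (i : ℕ) : ℕ := (Finset.univ.filter fun l => p l ≤ i).card

theorem finrank_eq_cnt (hrd : r ≤ d)
    (hI : ∀ i, (f i).comp (g i) = s • LinearMap.id ∧ (g i).comp (f i) = s • LinearMap.id) (LH : LHyp f g s)
    (hs : algebraMap R L s = 0) (hV : V ∈ W4c1limliniiii.LGPoints R d r n f g L) {ι : Idx d r n}
    {c : Fin r → Fin (d - r) → L} (h : Mem f g s ι c V) {i : ℕ} (hi : i < n) :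
    finrank L ((fam V i).map (op L (Fm f i))) = cnt (fun l => (ι.p l).1) i :=
  h.isFrame.finrank_map (LH L) hs (linked_fam hrd hI hV) hi

theorem exists_graphs (N : Module.Grassmannian L (L ⊗[R] (Fin d → R)) (d - r)) (J : Fin (d - r) → Fin d)
    (hJ : cspan L J ⊔ sub N = ⊤) :
    span L {v : Fin d → L | v ∈ sub N ∧ ∃ a, (Pi.single a 1 : Fin d → L) - v ∈ cspan L J} = sub N := by
  refine le_antisymm (span_le.2 fun v hv => hv.1) fun v hv => ?_
  choose y hy y' hy' e using fun a => Submodule.mem_sup.1
    (hJ.ge (Submodule.mem_top : (Pi.single a 1 : Fin d → L) ∈ ⊤))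
  have h0 : v = ∑ a, v a • y' a := by
    refine sub_eq_zero.1 (Submodule.disjoint_def.1 (disjoint_of_sup_eq_top N J hJ) _ ?_
      (sub_mem hv (sum_mem fun a _ => smul_mem _ _ (hy' a))))
    rw [show v - ∑ a, v a • y' a = ∑ a, v a • y a by
      rw [sub_eq_iff_eq_add, ← Finset.sum_add_distrib]
      simp only [← smul_add, e]
      exact pi_eq_sum_univ' v]
    exact sum_mem fun a _ => smul_mem _ _ (hy a)
  rw [h0]
  exact sum_mem fun a _ => smul_mem _ _ (subset_span ⟨hy' a, a, by rw [← e a]; simpa using hy a⟩)

theorem exists_mem_of_frame (hrd : r ≤ d) (p : Fin r → Fin (n + 1)) (u : Fin r → Fin d → L)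
    (J : Fin (n + 1) → Fin (d - r) → Fin d) (hJ : ∀ j, cspan L (J j) ⊔ sub (V j) = ⊤)
    (hu : ∀ l, ∃ a, (Pi.single a 1 : Fin d → L) - u l ∈ cspan L (J (p l)))
    (hF : IsFrame (fun i => op L (Fm f i)) (fun i => op L (Gm g s i)) n (fun l => (p l).1) u (fam V)) :
    ∃ (ι : Idx d r n) (c : Fin r → Fin (d - r) → L), ι.p = p ∧ Good f g s ι c ∧ Mem f g s ι c V := by
  choose b hb using hu
  have hb' : ∀ l, ∃ c : Fin (d - r) → L,
      Pi.single (b l) 1 + ∑ a, c a • (Pi.single (J (p l) a) 1 : Fin d → L) = u l := fun l => by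
    have := hb l
    rw [cspan, Submodule.mem_span_range_iff_exists_fun] at this
    obtain ⟨c, hc⟩ := this
    refine ⟨-c, ?_⟩
    simp [hc]
  choose c hc using hb'
  refine ⟨⟨p, J, b⟩, c, rfl, ?_⟩
  have hm : Mem f g s ⟨p, J, b⟩ c V := fun j => by
    rw [← fam_eq V j, hF j.1 (Nat.lt_succ_iff.1 j.2)]
    refine congrArg (fun w => span L (Set.range w)) (funext fun l => ?_)
    rw [tp_op, zvec]
    exact congrArg _ (hc l).symm
  refine ⟨fun j => ?_, hm⟩
  rw [← hm j]
  exact hJ j

/-- An exact point lies in a chart. -/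
theorem exists_chart (hrd : r ≤ d)
    (hI : ∀ i, (f i).comp (g i) = s • LinearMap.id ∧ (g i).comp (f i) = s • LinearMap.id) (LH : LHyp f g s)
    (hV : V ∈ W4c1limliniiii.LGPoints R d r n f g L)
    (hex : W4c1limliniiii.IsExact R d r n f g L V ∨ algebraMap R L s ≠ 0) :
    ∃ (ι : Idx d r n) (c : Fin r → Fin (d - r) → L),
      (algebraMap R L s ≠ 0 → ∀ l, ι.p l = 0) ∧ Good f g s ι c ∧ Mem f g s ι c V := by
  choose J hJ using fun j => exists_cspan_compl hrd (V j)
  let S : ℕ → Set (Fin d → L) := fun j =>
    {v | v ∈ fam V j ∧ ∃ a, (Pi.single a 1 : Fin d → L) - v ∈ cspan L (J (idx j))}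
  have hS : ∀ j, span L (S j) = fam V j := fun j => exists_graphs (V (idx j)) _ (hJ _)
  have hW := linked_fam hrd hI hV
  by_cases hs : algebraMap R L s = 0
  · obtain ⟨p, q, x, v, hp, -, -, hxS, hq, hspan⟩ := deg_frame (LH L) hs hW S fun j _ => hS j
    have hqf := hq ((isExact_iff V).1 (hex.resolve_right (not_not_intro hs)))
    obtain ⟨ι, c, hι, hc⟩ := exists_mem_of_frame (f := f) (g := g) (s := s) hrd (fun l => (⟨p l, Nat.lt_succ_iff.2 (hp l)⟩ : Fin (n + 1))) x J hJ
      (fun l => by
        obtain ⟨-, ha⟩ := hxS l (hqf l)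
        rwa [show idx (n := n) (p l) = ⟨p l, Nat.lt_succ_iff.2 (hp l)⟩ from Fin.ext (idx_val (hp l))] at ha)
      (fun j hj => by
        rw [hspan j hj]
        simp [hqf])
    exact ⟨ι, c, fun h => absurd hs h, hc⟩
  · obtain ⟨u, hu, hF⟩ := frame_of_ne_zero (LH L) hs hW (S 0) (hS 0)
    obtain ⟨ι, c, hι, hc⟩ := exists_mem_of_frame hrd (fun _ => (0 : Fin (n + 1))) u J hJ
      (fun l => by
        obtain ⟨-, ha⟩ := hu l
        rwa [show idx (n := n) 0 = 0 from Fin.ext (idx_val (Nat.zero_le n))] at ha)
      hF
    exact ⟨ι, c, fun _ l => congrFun hι l, hc⟩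

theorem isExact_of_ne_zero (hrd : r ≤ d)
    (hI : ∀ i, (f i).comp (g i) = s • LinearMap.id ∧ (g i).comp (f i) = s • LinearMap.id) (LH : LHyp f g s)
    (hV : V ∈ W4c1limliniiii.LGPoints R d r n f g L) (hs : algebraMap R L s ≠ 0) :
    W4c1limliniiii.IsExact R d r n f g L V := by
  obtain ⟨ι, c, -, -, hm⟩ := exists_chart hrd hI LH hV (Or.inr hs)
  exact isExact_of_mem hrd hI LH hV hm

/-! ### Deformations -/

variable (R L) in
/-- The constant coefficient as a map of algebras. -/
def cc : PowerSeries L →ₐ[R] L :=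
  { PowerSeries.constantCoeff (R := L) with
    commutes' := fun x => by
      show PowerSeries.constantCoeff (algebraMap R (PowerSeries L) x) = _
      rw [PowerSeries.algebraMap_apply, PowerSeries.constantCoeff_C] }

variable (R L) in
/-- The constants as a map of algebras. -/
def Cst : L →ₐ[R] PowerSeries L :=
  { PowerSeries.C (R := L) with
    commutes' := fun x => by
      show PowerSeries.C (algebraMap R L x) = _
      rw [PowerSeries.algebraMap_apply] }

theorem cc_Cst (v : Fin d → L) : (cc R L ∘ (Cst R L ∘ v) : Fin d → L) = v :=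
  funext fun _ => PowerSeries.constantCoeff_C _

theorem cc_add_X_smul (a b : Fin d → PowerSeries L) :
    (cc R L ∘ (a + (PowerSeries.X : PowerSeries L) • b) : Fin d → L) = cc R L ∘ a := by
  funext x
  show cc R L (a x + PowerSeries.X * b x) = cc R L (a x)
  rw [map_add, map_mul, show cc R L PowerSeries.X = 0 from PowerSeries.constantCoeff_X, zero_mul, add_zero]

/-- A family over power series with given reduction and exact generic member. -/
theorem exists_deform (hrd : r ≤ d)
    (hI : ∀ i, (f i).comp (g i) = s • LinearMap.id ∧ (g i).comp (f i) = s • LinearMap.id) (LH : LHyp f g s)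
    (hV : V ∈ W4c1limliniiii.LGPoints R d r n f g L) (hs : algebraMap R L s = 0) :
    ∃ (q : Fin r → Bool) (p : Fin r → ℕ), (∀ l, q l = true → p l < n) ∧
      (¬ W4c1limliniiii.IsExact R d r n f g L V → ∃ l, q l = true) ∧
      ∀ fl : Fin r → Bool, ∃ V' : W4c1limliniiii.LGPoints R d r n f g (PowerSeries L),
        (fun i => Module.Grassmannian.map (cc R L) (V'.1 i)) = V ∧
        W4c1limliniiii.IsExact R d r n f g (FractionRing (PowerSeries L))
          (fun i => Module.Grassmannian.map (IsScalarTower.toAlgHom R (PowerSeries L) (FractionRing (PowerSeries L)))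
            (V'.1 i)) ∧
        ∀ i < n, finrank (FractionRing (PowerSeries L))
            ((fam (fun i => Module.Grassmannian.map
              (IsScalarTower.toAlgHom R (PowerSeries L) (FractionRing (PowerSeries L))) (V'.1 i)) i).map
              (op (FractionRing (PowerSeries L)) (Fm f i))) =
          cnt (fun l => if q l = true ∧ fl l = true then p l + 1 else p l) i := by
  classical
  have hW := linked_fam hrd hI hV
  obtain ⟨p, q, x, v, hp, -, hpair, -, hq, hspan⟩ :=
    deg_frame (LH L) hs hW (fun j => fam V j) fun j _ => span_eq _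
  refine ⟨q, p, fun l hl => (hpair l hl).1, fun hne => ?_, fun fl => ?_⟩
  · by_contra hall
    push_neg at hall
    refine hne ((isExact_iff V).2 (ex_of_frame (LH L) hW (p := p) (u := x) fun j hj => ?_))
    rw [hspan j hj]
    simp [hall]
  have hw : ∀ l, ∃ w w' : Fin d → L, q l = true → op L (Fm f (p l)) w = v l ∧ op L (Gm g s (p l)) w' = x l := by
    intro l
    by_cases hl : q l = true
    · obtain ⟨-, h1, h2, -⟩ := hpair l hl
      obtain ⟨w, hw⟩ := ((LH L).kerG hs (p l)).le (LinearMap.mem_ker.2 h2)
      obtain ⟨w', hw'⟩ := ((LH L).kerF hs (p l)).le (LinearMap.mem_ker.2 h1)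
      exact ⟨w, w', fun _ => ⟨hw, hw'⟩⟩
    · exact ⟨0, 0, fun h => absurd h hl⟩
  choose w w' hww using hw
  let O := PowerSeries L
  let T : O := PowerSeries.X
  let C : (Fin d → L) → (Fin d → O) := fun a => Cst R L ∘ a
  let pos : Fin r → ℕ := fun l => if q l = true ∧ fl l = true then p l + 1 else p l
  let u : Fin r → Fin d → O := fun l =>
    if q l = true then (if fl l = true then C (v l) + T • C (w' l) else C (x l) + T • C (w l)) else C (x l)
  let left : Fin r → Fin d → O := fun l => if q l = true ∧ fl l = true then C (x l) else u l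
  let right : Fin r → Fin d → O := fun l => if q l = true ∧ fl l = false then C (v l) else u l
  let z : ℕ → Fin r → Fin d → O := fun j l =>
    if q l = true ∧ p l < j then op O (tp (Fm f) (Gm g s) (p l + 1) j) (right l)
    else op O (tp (Fm f) (Gm g s) (p l) j) (left l)
  have hopC : ∀ (M : Matrix (Fin d) (Fin d) R) a, op O M (C a) = C (op L M a) := fun M a =>
    (op_comp (Cst R L) M a).symm
  have hCzero : C 0 = 0 := funext fun _ => map_zero (Cst R L)
  have hs' : algebraMap R O s = 0 := by rw [← (Cst R L).commutes s, hs, map_zero]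
  have hFleft : ∀ l, q l = true → op O (Fm f (p l)) (left l) = if fl l = true then 0 else T • right l := by
    intro l hl
    obtain ⟨-, h1, -, -⟩ := hpair l hl
    simp only [left, right, u, hl, if_true]
    cases fl l
    · simp [map_add, map_smul, hopC, (hww l hl).1, h1, hCzero]
    · simp [hopC, h1, hCzero]
  have hGright : ∀ l, q l = true → op O (Gm g s (p l)) (right l) = if fl l = true then T • left l else 0 := by
    intro l hl
    obtain ⟨-, -, h2, -⟩ := hpair l hl
    simp only [left, right, u, hl, if_true]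
    cases fl l
    · simp [hopC, h2, hCzero]
    · simp [map_add, map_smul, hopC, (hww l hl).2, h2, hCzero]
  have hmemF : ∀ i < n, ∀ l, op O (Fm f i) (z i l) ∈ span O (Set.range (z (i + 1))) := by
    intro i _ l
    have hz : z (i + 1) l ∈ span O (Set.range (z (i + 1))) := subset_span ⟨l, rfl⟩
    by_cases hlt : q l = true ∧ p l < i
    · simp only [z] at hz ⊢
      rw [if_pos hlt, op_tp_F hI, if_pos (by omega : p l + 1 ≤ i)]
      rwa [if_pos ⟨hlt.1, by omega⟩] at hz
    · simp only [z] at hz ⊢
      rw [if_neg hlt, op_tp_F hI]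
      by_cases hpi : p l ≤ i
      · rw [if_pos hpi]
        by_cases hl : q l = true
        · obtain rfl : i = p l := by
            have : ¬ p l < i := fun h => hlt ⟨hl, h⟩
            omega
          rw [tp_succ _ _ le_rfl, tp_self, mul_one, hFleft l hl]
          rw [if_pos ⟨hl, by omega⟩, tp_self, map_one] at hz
          split_ifs
          · exact zero_mem _
          · exact smul_mem _ _ hz
        · rwa [if_neg (fun h => hl h.1)] at hz
      · rw [if_neg hpi, hs', zero_smul]
        exact zero_mem _
  have hmemG : ∀ i < n, ∀ l, op O (Gm g s i) (z (i + 1) l) ∈ span O (Set.range (z i)) := by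
    intro i _ l
    have hz : z i l ∈ span O (Set.range (z i)) := subset_span ⟨l, rfl⟩
    by_cases hlt : q l = true ∧ p l < i + 1
    · simp only [z] at hz ⊢
      rw [if_pos hlt]
      by_cases hpi : p l + 1 ≤ i
      · rw [op_tp_G hI, if_pos hpi, hs', zero_smul]
        exact zero_mem _
      · obtain rfl : i = p l := by omega
        rw [tp_self, map_one, Module.End.one_apply, hGright l hlt.1]
        rw [if_neg (fun h => lt_irrefl _ h.2), tp_self, map_one] at hz
        split_ifs
        · exact smul_mem _ _ hz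
        · exact zero_mem _
    · simp only [z] at hz ⊢
      rw [if_neg hlt, op_tp_G hI]
      by_cases hpi : p l ≤ i
      · rw [if_pos hpi, hs', zero_smul]
        exact zero_mem _
      · rw [if_neg hpi]
        rwa [if_neg (fun h => hlt ⟨h.1, by omega⟩)] at hz
  have hccz : ∀ j l, (cc R L ∘ z j l : Fin d → L) =
      if q l = true ∧ p l < j then op L (tp (Fm f) (Gm g s) (p l + 1) j) (v l)
      else op L (tp (Fm f) (Gm g s) (p l) j) (x l) := by
    intro j l
    simp only [z]
    split_ifs with h
    · rw [op_comp]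
      congr 1
      simp only [right, u, C, T, h.1, if_true]
      cases fl l <;> simp only [and_self, and_true, false_and, and_false, Bool.false_eq_true, reduceCtorEq, ↓reduceIte, reduceIte] <;>
        first | exact cc_Cst (R := R) _ | exact (cc_add_X_smul (R := R) _ _).trans (cc_Cst (R := R) _)
    · rw [op_comp]
      congr 1
      simp only [left, u, C, T]
      cases q l <;> cases fl l <;> simp only [and_self, and_true, false_and, and_false, Bool.false_eq_true, reduceCtorEq, ↓reduceIte, reduceIte] <;>
        first | exact cc_Cst (R := R) _ | exact (cc_add_X_smul (R := R) _ _).trans (cc_Cst (R := R) _)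
  have hred : ∀ j : Fin (n + 1), sub (V j) = span L (Set.range fun l => (cc R L ∘ z j.1 l : Fin d → L)) := by
    intro j
    rw [← fam_eq V j, hspan j.1 (Nat.lt_succ_iff.1 j.2)]
    refine congrArg (fun w => span L (Set.range w)) (funext fun l => ?_)
    rw [hccz, tp_op, tp_op]
  choose J hJ using fun j => exists_cspan_compl hrd (V j)
  have hgood : ∀ j : Fin (n + 1), cspan O (J j) ⊔ span O (Set.range (z j.1)) = ⊤ := by
    intro j
    rw [← isUnit_det_iff hrd, PowerSeries.isUnit_iff_constantCoeff]
    have := colMat_map (cc R L) hrd (J j) (z j.1)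
    rw [show PowerSeries.constantCoeff (colMat hrd (J j) (z j.1)).det = cc R L (colMat hrd (J j) (z j.1)).det
      from rfl, this, isUnit_det_iff hrd, ← hred]
    exact hJ j
  obtain ⟨V', hV'⟩ := exists_linked_point hrd hI J z hgood hmemF hmemG
  refine ⟨V', funext fun j => sub_injective ?_, ?_⟩
  · rw [sub_map_span (cc R L) _ _ (hV' j), ← hred]
  let K := FractionRing O
  let ψ : O →ₐ[R] K := IsScalarTower.toAlgHom R O K
  have hT : IsUnit (ψ T) := IsUnit.mk0 _ (fun h => PowerSeries.X_ne_zero
    (IsFractionRing.injective O K (h.trans (map_zero (algebraMap O K)).symm)))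
  have hVK : (fun i => Module.Grassmannian.map ψ (V'.1 i)) ∈ W4c1limliniiii.LGPoints R d r n f g K := by
    refine (mem_LG K hI _).2 ⟨fun i hi y hy => ?_, fun i hi y hy => ?_⟩
    all_goals
      simp only [fam] at hy ⊢
      rw [sub_map_span ψ _ _ (hV' _)] at hy ⊢
      rw [idx_val hi.le, idx_val hi] at *
      induction hy using Submodule.span_induction with
      | mem y hy =>
        obtain ⟨l, rfl⟩ := hy
        rw [← op_comp]
        first
          | exact (span_image_comp ψ (z (i + 1))).le (subset_span ⟨_, hmemF i hi l, rfl⟩)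
          | exact (span_image_comp ψ (z i)).le (subset_span ⟨_, hmemG i hi l, rfl⟩)
      | zero => rw [map_zero]; exact zero_mem _
      | add a b _ _ ha hb => rw [map_add]; exact add_mem ha hb
      | smul c a _ ha => rw [map_smul]; exact smul_mem _ _ ha
  have hframe : IsFrame (fun i => op K (Fm f i)) (fun i => op K (Gm g s i)) n pos (fun l => (ψ ∘ u l : Fin d → K))
      (fam fun i => Module.Grassmannian.map ψ (V'.1 i)) := by
    intro j hj
    rw [fam, sub_map_span ψ _ _ (hV' _), idx_val hj]
    have key : ∀ l, ∃ t : K, IsUnit t ∧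
        t • (ψ ∘ z j l : Fin d → K) = op K (tp (Fm f) (Gm g s) (pos l) j) (ψ ∘ u l) := by
      intro l
      have hsm : ∀ y : Fin d → O, ψ T • (ψ ∘ y : Fin d → K) = ψ ∘ (T • y) := fun y =>
        funext fun a => (map_mul ψ T (y a)).symm
      by_cases hl : q l = true
      · cases hfl : fl l
        · have hpos : pos l = p l := if_neg (by simp [hfl])
          by_cases hj' : p l < j
          · refine ⟨ψ T, hT, ?_⟩
            rw [hsm, ← op_comp]
            congr 1
            simp only [z]
            rw [if_pos ⟨hl, hj'⟩, hpos, tp_left_succ _ _ hj', map_mul, Module.End.mul_apply,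
              show u l = left l by simp [left, hfl], hFleft l hl, hfl, if_neg Bool.false_ne_true, map_smul]
          · refine ⟨1, isUnit_one, ?_⟩
            rw [one_smul, ← op_comp]
            simp only [z]
            rw [if_neg (fun h => hj' h.2), hpos, show left l = u l by simp [left, hfl]]
        · have hpos : pos l = p l + 1 := if_pos ⟨hl, hfl⟩
          by_cases hj' : p l < j
          · refine ⟨1, isUnit_one, ?_⟩
            rw [one_smul, ← op_comp]
            simp only [z]
            rw [if_pos ⟨hl, hj'⟩, hpos, show right l = u l by simp [right, hfl]]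
          · refine ⟨ψ T, hT, ?_⟩
            rw [hsm, ← op_comp]
            congr 1
            simp only [z]
            rw [if_neg (fun h => hj' h.2), hpos, tp_left_pred _ _ (by omega : j ≤ p l), map_mul,
              Module.End.mul_apply, show u l = right l by simp [right, hfl], hGright l hl, hfl, if_pos rfl,
              map_smul]
      · refine ⟨1, isUnit_one, ?_⟩
        rw [one_smul, ← op_comp]
        have hpos : pos l = p l := if_neg (fun h => hl h.1)
        simp only [z]
        rw [if_neg (fun h => hl h.1), hpos, show left l = u l by simp [left, hl]]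
    choose t ht hteq using key
    refine le_antisymm (span_le.2 ?_) (span_le.2 ?_) <;> rintro _ ⟨l, rfl⟩
    · obtain ⟨t', ht'⟩ := ht l
      have : (ψ ∘ z j l : Fin d → K) = (↑t'⁻¹ : K) • op K (tp (Fm f) (Gm g s) (pos l) j) (ψ ∘ u l) := by
        rw [← hteq, smul_smul, ← ht', Units.inv_mul, one_smul]
      show (ψ ∘ z j l : Fin d → K) ∈ _
      rw [this]
      exact smul_mem _ _ (subset_span ⟨l, tp_op _ _ _⟩)
    · show tp (fun i => op K (Fm f i)) (fun i => op K (Gm g s i)) (pos l) j (ψ ∘ u l) ∈ _
      rw [tp_op, ← hteq]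
      exact smul_mem _ _ (subset_span ⟨l, rfl⟩)
  have hsK : algebraMap R K s = 0 := by rw [← ψ.commutes s, hs', map_zero]
  exact ⟨(isExact_iff _).2 (ex_of_frame (LH K) (linked_fam hrd hI hVK) hframe),
    fun i hi => hframe.finrank_map (LH K) hsK (linked_fam hrd hI hVK) hi⟩

end GrothLib.LinkExact10
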