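import Groth.Agent.Lib.LinkExact10.Global

/-!
# Components of linked Grassmannians
-/

set_option autoImplicit false
set_option linter.all false
set_option backward.isDefEq.respectTransparency false

universe u

noncomputable section

open CategoryTheory AlgebraicGeometry TensorProduct Submodule Topology

namespace GrothLib.LinkExact10

open GrothLib.Grass26

section Field

variable {k : Type u} [Field k] {d r n : ℕ} {f g : Fin n → ((Fin d → k) →ₗ[k] (Fin d → k))} {s : k}
  {X : Over (Spec (CommRingCat.of k))}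
  {e : ∀ A : CommAlgCat.{u} k,
    (Over.mk (Spec.map (CommRingCat.ofHom (algebraMap k A))) ⟶ X) ≃ W4c1limliniiii.LGPoints k d r n f g A}
  (he : ∀ (A B : CommAlgCat.{u} k) (φ : A ⟶ B)
      (x : Over.mk (Spec.map (CommRingCat.ofHom (algebraMap k A))) ⟶ X)
      (x' : Over.mk (Spec.map (CommRingCat.ofHom (algebraMap k B))) ⟶ X),
      x'.left = Spec.map (CommRingCat.ofHom φ.hom.toRingHom) ≫ x.left →
        ∀ i, (e B x').1 i = Module.Grassmannian.map φ.hom ((e A x).1 i))
  (hrd : r ≤ d) (hI : ∀ i, (f i).comp (g i) = s • LinearMap.id ∧ (g i).comp (f i) = s • LinearMap.id)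
  (LH : LHyp f g s)

include he hrd hI LH in
theorem dim_component {Z : Set X.left} (hZ : Z ∈ irreducibleComponents X.left) :
    topologicalKrullDim Z = (r * (d - r) : ℕ) := by
  obtain ⟨ι, hne', hZeq⟩ := exists_component_eq hrd hI he LH hZ
  have hne : (crange X e hrd hI ι).Nonempty := hne'.mono Set.inter_subset_right
  haveI := locallyOfFiniteType he
  haveI := isOpenImmersion_chart hrd hI he ι
  obtain ⟨N, hN, hNU⟩ := Dim.exists_nat_dim_irreducible X.hom (isClosed_of_mem_irreducibleComponents _ hZ) hZ.1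
  have h1 := hNU (chartHom X e hrd hI ι).left.opensRange hne'
  have hrange : Z ∩ ((chartHom X e hrd hI ι).left.opensRange : Set X.left) = crange X e hrd hI ι := by
    refine Set.inter_eq_right.2 (fun q hq => ?_)
    exact hZeq.ge (subset_closure hq)
  rw [hrange] at h1
  have h2 : topologicalKrullDim (crange X e hrd hI ι) = ringKrullDim (cRing f g s hrd ι) :=
    ((Dim.IsEmbedding.topologicalKrullDim_eq (chartHom X e hrd hI ι).left.isOpenEmbedding.isEmbedding rfl).symm).trans
      (PrimeSpectrum.topologicalKrullDim_eq_ringKrullDim _)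
  obtain ⟨hdom, hD, -⟩ := isDomain_cRing hrd hI hne
  have h3 : ringKrullDim (cRing f g s hrd ι) = (r * (d - r) : ℕ) := by
    rw [show ringKrullDim (cRing f g s hrd ι) = ringKrullDim (MvPolynomial (Fin r × Fin (d - r)) k) from
      Dim.ringKrullDim_away k (MvPolynomial (Fin r × Fin (d - r)) k) _ hD (cRing f g s hrd ι),
      MvPolynomial.ringKrullDim_of_isNoetherianRing, ringKrullDim_eq_zero_of_field]
    simp
  rw [hN, ← h1, h2, h3]

include he hrd hI LH in
theorem not_exact_iff (x : Pt X (CommAlgCat.of k k)) :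
    ¬ W4c1limliniiii.IsExact k d r n f g k (tup X e x) ↔
      ∃ Z₁ ∈ irreducibleComponents X.left, ∃ Z₂ ∈ irreducibleComponents X.left,
        Z₁ ≠ Z₂ ∧ Set.range x.left ⊆ Z₁ ∩ Z₂ := by
  rw [range_eq_pnt]
  simp only [Set.singleton_subset_iff]
  constructor
  · intro hne
    have hs : algebraMap k k s = 0 := by
      by_contra h
      exact hne (isExact_of_ne_zero hrd hI LH (e _ x).2 h)
    obtain ⟨q, p, hp, hq, hdef⟩ := exists_deform hrd hI LH (e _ x).2 hs
    obtain ⟨l₀, hl₀⟩ := hq hne
    have key : ∀ fl : Fin r → Bool, ∃ Z ∈ irreducibleComponents X.left, pnt x ∈ Z ∧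
        ∀ ι : Idx d r n, Z = closure (crange X e hrd hI ι) → ∀ i < n,
          cnt (fun l => if q l = true ∧ fl l = true then p l + 1 else p l) i = cnt (fun l => (ι.p l).1) i := by
      intro fl
      obtain ⟨V', hred, hex, hcnt⟩ := hdef fl
      obtain ⟨y, hy, hsp⟩ := exists_specializes_of_deform he LH x V' hred
      refine ⟨irreducibleComponent (pnt y), irreducibleComponent_mem_irreducibleComponents _,
        hsp.mem_closed isClosed_irreducibleComponent mem_irreducibleComponent, fun ι hι i hi => ?_⟩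
      obtain ⟨ι₁, c₁, -, hc₁⟩ := exists_chart hrd hI LH (e _ y).2 (Or.inl (by
        show W4c1limliniiii.IsExact k d r n f g _ (tup X e y)
        rw [hy]; exact hex))
      have hmem₁ : pnt y ∈ crange X e hrd hI ι₁ := (pnt_mem_crange_iff hrd hI he ι₁ y).2 ⟨c₁, hc₁⟩
      have hsK : algebraMap k (FractionRing (PowerSeries k)) s = 0 := by
        rw [show s = 0 from hs, map_zero]
      have e1 := finrank_eq_cnt hrd hI LH hsK (e _ y).2 hc₁.2 hi
      rw [show ((e _ y).1 : Fin (n + 1) → _) = _ from hy, hcnt i hi] at e1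
      obtain ⟨q', hq', hq''⟩ : ((crange X e hrd hI ι₁) ∩ crange X e hrd hI ι).Nonempty :=
        mem_closure_iff.1 (hι ▸ (mem_irreducibleComponent : pnt y ∈ irreducibleComponent (pnt y)))
          _ (isOpen_crange hrd hI he ι₁) hmem₁
      obtain ⟨M, _, _, z, rfl⟩ := exists_pnt_eq q'
      obtain ⟨a, -, ha⟩ := (pnt_mem_crange_iff hrd hI he ι₁ z).1 hq'
      obtain ⟨b, -, hb⟩ := (pnt_mem_crange_iff hrd hI he ι z).1 hq''
      have hsM : algebraMap k M s = 0 := by rw [show s = 0 from hs, map_zero]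
      rw [e1]
      exact (finrank_eq_cnt hrd hI LH hsM (e _ z).2 ha hi).symm.trans (finrank_eq_cnt hrd hI LH hsM (e _ z).2 hb hi)
    obtain ⟨Z₁, hZ₁, hx₁, h₁⟩ := key fun _ => false
    obtain ⟨Z₂, hZ₂, hx₂, h₂⟩ := key fun l => decide (l = l₀)
    refine ⟨Z₁, hZ₁, Z₂, hZ₂, fun heq => ?_, hx₁, hx₂⟩
    obtain ⟨ι, -, hι⟩ := exists_component_eq hrd hI he LH hZ₁
    have e1 := h₁ ι hι (p l₀) (hp l₀ hl₀)
    have e2 := h₂ ι (heq ▸ hι) (p l₀) (hp l₀ hl₀)
    rw [← e1, cnt, cnt] at e2
    revert e2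
    refine ne_of_lt (Finset.card_lt_card ((Finset.ssubset_iff_of_subset ?_).2 ⟨l₀, by simp, by simp [hl₀]⟩))
    intro l
    simp only [Finset.mem_filter, Finset.mem_univ, true_and, Bool.false_eq_true, and_false, if_false]
    split_ifs <;> omega
  · rintro ⟨Z₁, hZ₁, Z₂, hZ₂, hne, hx₁, hx₂⟩ hex
    obtain ⟨ι, c, -, hc⟩ := exists_chart hrd hI LH (e _ x).2 (Or.inl hex)
    have hι := (pnt_mem_crange_iff hrd hI he ι x).2 ⟨c, hc⟩
    exact hne ((component_eq_of_mem hrd hI he hZ₁ ⟨_, hx₁, hι⟩).trans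
      (component_eq_of_mem hrd hI he hZ₂ ⟨_, hx₂, hι⟩).symm)

end Field

section Domain

variable {R : Type u} [CommRing R] [IsDomain R] {d r n : ℕ} {f g : Fin n → ((Fin d → R) →ₗ[R] (Fin d → R))} {s : R}
  {X : Over (Spec (CommRingCat.of R))}
  {e : ∀ A : CommAlgCat.{u} R,
    (Over.mk (Spec.map (CommRingCat.ofHom (algebraMap R A))) ⟶ X) ≃ W4c1limliniiii.LGPoints R d r n f g A}
  (he : ∀ (A B : CommAlgCat.{u} R) (φ : A ⟶ B)
      (x : Over.mk (Spec.map (CommRingCat.ofHom (algebraMap R A))) ⟶ X)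
      (x' : Over.mk (Spec.map (CommRingCat.ofHom (algebraMap R B))) ⟶ X),
      x'.left = Spec.map (CommRingCat.ofHom φ.hom.toRingHom) ≫ x.left →
        ∀ i, (e B x').1 i = Module.Grassmannian.map φ.hom ((e A x).1 i))
  (hrd : r ≤ d) (hI : ∀ i, (f i).comp (g i) = s • LinearMap.id ∧ (g i).comp (f i) = s • LinearMap.id)
  (LH : LHyp f g s)

include he hrd hI in
/-- A nonempty chart has a point over the generic point. -/
theorem exists_generic (ι : Idx d r n) (h : (crange X e hrd hI ι).Nonempty) :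
    ∃ (L : Type u) (_ : Field L) (_ : Algebra R L) (x : Pt X (CommAlgCat.of R L)),
      Function.Injective (algebraMap R L) ∧ pnt x ∈ crange X e hrd hI ι := by
  obtain ⟨hdom, -, hinj⟩ := isDomain_cRing hrd hI h
  haveI := hdom
  let B := cRing f g s hrd ι
  let ψ : B ⟶ CommAlgCat.of R (FractionRing B) :=
    CommAlgCat.ofHom (IsScalarTower.toAlgHom R B (FractionRing B))
  refine ⟨FractionRing B, inferInstance, inferInstance, res ψ (chartHom X e hrd hI ι), ?_,
    ⟨(Spec.map (CommRingCat.ofHom ψ.hom.toRingHom)) (default : PrimeSpectrum (FractionRing B)), rfl⟩⟩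
  rw [IsScalarTower.algebraMap_eq R B (FractionRing B)]
  exact (IsFractionRing.injective B (FractionRing B)).comp hinj

include he hrd hI LH in
theorem component_surjective {Z : Set X.left} (hZ : Z ∈ irreducibleComponents X.left) :
    X.hom '' Z = Set.univ := by
  obtain ⟨ι, hne', hZeq⟩ := exists_component_eq hrd hI he LH hZ
  haveI := isProper_of_points X e he
  have hcl : IsClosed (X.hom '' Z) := X.hom.isClosedMap _ (isClosed_of_mem_irreducibleComponents _ hZ)
  obtain ⟨L, _, _, x, hinj, hx⟩ := exists_generic he hrd hI ι (hne'.mono Set.inter_subset_right)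
  have hη : (⟨⊥, Ideal.isPrime_bot⟩ : PrimeSpectrum R) ∈ X.hom '' Z := by
    refine ⟨pnt x, hZeq.ge (subset_closure hx), ?_⟩
    show (x.left ≫ X.hom) (default : PrimeSpectrum L) = _
    rw [Over.w]
    refine PrimeSpectrum.ext ?_
    show Ideal.comap (algebraMap R L) (default : PrimeSpectrum L).asIdeal = ⊥
    rw [(Ideal.eq_bot_or_top _).resolve_right (default : PrimeSpectrum L).2.ne_top, ← RingHom.ker_eq_comap_bot,
      (RingHom.injective_iff_ker_eq_bot _).1 hinj]
  exact Set.eq_univ_of_forall fun y =>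
    ((PrimeSpectrum.le_iff_specializes _ _).1 (show (⟨⊥, Ideal.isPrime_bot⟩ : PrimeSpectrum R) ≤ (y : PrimeSpectrum R)
      from (bot_le : (⊥ : Ideal R) ≤ (y : PrimeSpectrum R).asIdeal))).mem_closed hcl hη

/-- The generic frame at position zero lies in every nonempty chart with these positions. -/
theorem mem_generic_frame {L : Type u} [Field L] [Algebra R L] (u : Fin r → Fin d → L) {ι : Idx d r n}
    (hp : ∀ l, ι.p l = 0) {V : Fin (n + 1) → Module.Grassmannian L (L ⊗[R] (Fin d → R)) (d - r)}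
    (hrd : r ≤ d) (hV : ∀ j, sub (V j) = span L (Set.range fun l => op L (tp (Fm f) (Gm g s) 0 j.1) (u l)))
    (hJ : ∀ j, cspan L (ι.J j) ⊔ span L (Set.range fun l => op L (tp (Fm f) (Gm g s) 0 j.1) (u l)) = ⊤)
    (hb : cspan L (ι.J 0) ⊔ span L (Set.range fun l => (Pi.single (ι.b l) 1 : Fin d → L)) = ⊤) :
    ∃ c, Good f g s ι c ∧ Mem f g s ι c V := by
  have h0 : sub (V 0) = span L (Set.range u) := by
    rw [hV 0]; simp
  have htop : cspan L (ι.J 0) ⊔ sub (V 0) = ⊤ := by
    have := hJ 0
    rwa [← hV 0] at this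
  have hsplit : ∀ l, ∃ c : Fin (d - r) → L, gvec ι (fun _ => c) l ∈ sub (V 0) := fun l => by
    obtain ⟨y, hy, y', hy', e⟩ := Submodule.mem_sup.1
      (htop.ge (Submodule.mem_top : (Pi.single (ι.b l) 1 : Fin d → L) ∈ ⊤))
    rw [cspan, Submodule.mem_span_range_iff_exists_fun] at hy
    obtain ⟨c, hc⟩ := hy
    refine ⟨-c, ?_⟩
    convert hy' using 1
    rw [gvec, hp, ← e, ← hc]
    simp
  choose c hc using hsplit
  have hg : ∀ l, gvec ι c l ∈ sub (V 0) := fun l => hc l
  have hspan : span L (Set.range (gvec ι c)) = span L (Set.range u) := by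
    rw [← h0]
    refine (eq_span_of_le (V 0) (ι.J 0) _ hg ?_).symm
    rw [eq_top_iff, ← hb]
    refine sup_le le_sup_left (span_le.2 ?_)
    rintro _ ⟨l, rfl⟩
    have : (Pi.single (ι.b l) 1 : Fin d → L) = gvec ι c l - ∑ a, c l a • Pi.single (ι.J (ι.p l) a) 1 := by
      rw [gvec]; simp
    show (Pi.single (ι.b l) 1 : Fin d → L) ∈ _
    rw [this]
    refine sub_mem (mem_sup_right (subset_span ⟨l, rfl⟩)) (mem_sup_left ?_)
    rw [hp]
    exact sum_smul_mem_cspan _ _
  have hm : Mem f g s ι c V := fun j => by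
    rw [hV j]
    have e1 : ∀ w : Fin r → Fin d → L, span L (Set.range fun l => op L (tp (Fm f) (Gm g s) 0 j.1) (w l)) =
        (span L (Set.range w)).map (op L (tp (Fm f) (Gm g s) 0 j.1)) := fun w => by
      rw [Submodule.map_span, ← Set.range_comp]; rfl
    rw [show (zvec f g s ι c j.1) = fun l => op L (tp (Fm f) (Gm g s) 0 j.1) (gvec ι c l) from
      funext fun l => by rw [zvec, hp]; rfl, e1, e1, hspan]
  refine ⟨c, fun j => ?_, hm⟩
  rw [← hm j, hV j]
  exact hJ j

include he hrd hI LH in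
theorem irreducible_of_ne_zero (hs : s ≠ 0) : IrreducibleSpace X.left := by
  classical
  -- components come from charts at position zero
  have hcomp : ∀ Z ∈ irreducibleComponents X.left, ∃ ι : Idx d r n, (∀ l, ι.p l = 0) ∧
      (crange X e hrd hI ι).Nonempty ∧ Z = closure (crange X e hrd hI ι) := by
    intro Z hZ
    obtain ⟨ι, hne, hZeq⟩ := exists_component_eq hrd hI he LH hZ
    obtain ⟨L, _, _, x, hinj, hx⟩ := exists_generic he hrd hI ι (hne.mono Set.inter_subset_right)
    have hsL : algebraMap R L s ≠ 0 := fun h => hs (hinj (h.trans (map_zero _).symm))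
    obtain ⟨ι₀, c, hp, hc⟩ := exists_chart hrd hI LH (e _ x).2 (Or.inr hsL)
    have h₀ := (pnt_mem_crange_iff hrd hI he ι₀ x).2 ⟨c, hc⟩
    exact ⟨ι₀, hp hsL, ⟨_, h₀⟩, component_eq_of_mem hrd hI he hZ ⟨_, hZeq.ge (subset_closure hx), h₀⟩⟩
  -- the generic frame
  let P := MvPolynomial (Fin r × Fin d) R
  let L := FractionRing P
  let ψ : P →ₐ[R] L := IsScalarTower.toAlgHom R P L
  let uP : Fin r → Fin d → P := fun l x => MvPolynomial.X (l, x)
  let u : Fin r → Fin d → L := fun l => ψ ∘ uP l
  let z : ℕ → Fin r → Fin d → L := fun j l => op L (tp (Fm f) (Gm g s) 0 j) (u l)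
  have hz : ∀ ι : Idx d r n, (∀ l, ι.p l = 0) → (crange X e hrd hI ι).Nonempty →
      (∀ j, cspan L (ι.J j) ⊔ span L (Set.range (z j.1)) = ⊤) ∧
        cspan L (ι.J 0) ⊔ span L (Set.range fun l => (Pi.single (ι.b l) 1 : Fin d → L)) = ⊤ := by
    intro ι hp ⟨q, hq⟩
    obtain ⟨M, _, _, y, rfl⟩ := exists_pnt_eq q
    obtain ⟨c, hgood, -⟩ := (pnt_mem_crange_iff hrd hI he ι y).1 hq
    refine ⟨fun j => ?_, ?_⟩
    · rw [← isUnit_det_iff hrd, show z j.1 = fun l => (ψ ∘ op P (tp (Fm f) (Gm g s) 0 j.1) (uP l) : Fin d → L) from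
        funext fun l => (op_comp ψ _ _).symm, ← colMat_map]
      refine IsUnit.mk0 _ fun h => ?_
      have h0 : (colMat hrd (ι.J j) fun l => op P (tp (Fm f) (Gm g s) 0 j.1) (uP l)).det = 0 :=
        IsFractionRing.injective P L (h.trans (map_zero (algebraMap P L)).symm)
      let ev : P →ₐ[R] M := MvPolynomial.aeval fun x => gvec ι c x.1 x.2
      have h1 := congrArg ev h0
      rw [map_zero, colMat_map, show (fun l => (ev ∘ op P (tp (Fm f) (Gm g s) 0 j.1) (uP l) : Fin d → M)) =
        zvec f g s ι c j.1 from funext fun l => by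
          rw [op_comp, zvec, hp]
          exact congrArg _ (funext fun x => MvPolynomial.aeval_X _ _)] at h1
      exact ((isUnit_det_iff hrd _ _).2 (hgood j)).ne_zero h1
    · rw [← isUnit_det_iff hrd]
      have hb : cspan M (ι.J 0) ⊔ span M (Set.range fun l => (Pi.single (ι.b l) 1 : Fin d → M)) = ⊤ := by
        rw [eq_top_iff, ← hgood 0]
        refine sup_le le_sup_left (span_le.2 ?_)
        rintro _ ⟨l, rfl⟩
        show zvec f g s ι c 0 l ∈ _
        rw [zvec, hp, show ((0 : Fin (n + 1)) : ℕ) = 0 from rfl, tp_self, map_one, Module.End.one_apply, gvec, hp]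
        exact add_mem (mem_sup_right (subset_span ⟨l, rfl⟩)) (mem_sup_left (sum_smul_mem_cspan _ _))
      rw [← isUnit_det_iff hrd] at hb
      have e1 : ∀ (A : Type u) [CommRing A] [Algebra R A],
          algebraMap R A (colMat hrd (ι.J 0) fun l => (Pi.single (ι.b l) 1 : Fin d → R)).det =
            (colMat hrd (ι.J 0) fun l => (Pi.single (ι.b l) 1 : Fin d → A)).det := fun A _ _ => by
        refine (colMat_map (Algebra.ofId R A) hrd _ _).trans ?_
        exact congrArg (fun w => (colMat hrd (ι.J 0) w).det) (funext fun l => comp_single (Algebra.ofId R A) _)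
      rw [← e1] at hb ⊢
      refine IsUnit.mk0 _ fun h => hb.ne_zero ?_
      have hinj : Function.Injective (algebraMap R L) := by
        rw [IsScalarTower.algebraMap_eq R P L]
        exact (IsFractionRing.injective P L).comp (MvPolynomial.C_injective _ _)
      rw [hinj (h.trans (map_zero _).symm), map_zero]
  -- the space is nonempty
  have hne : Nonempty X.left := by
    let J₁ : Fin (d - r) → Fin d := fun a => ⟨r + a.1, by omega⟩
    let b₁ : Fin r → Fin d := fun l => ⟨l.1, by omega⟩
    let K := FractionRing R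
    let ι : Idx d r n := ⟨fun _ => 0, fun _ => J₁, b₁⟩
    have hJ : cspan K J₁ ⊔ span K (Set.range fun l => (Pi.single (b₁ l) 1 : Fin d → K)) = ⊤ := by
      rw [eq_top_iff, ← (Pi.basisFun K (Fin d)).span_eq, span_le]
      rintro _ ⟨x, rfl⟩
      rw [Pi.basisFun_apply]
      by_cases hx : x.1 < r
      · exact mem_sup_right (subset_span ⟨⟨x.1, hx⟩, rfl⟩)
      · refine mem_sup_left (subset_span ⟨⟨x.1 - r, by omega⟩, ?_⟩)
        exact congrArg (fun y => (Pi.single y 1 : Fin d → K)) (Fin.ext (show r + (x.1 - r) = x.1 by omega))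
    let w : ℕ → Fin r → Fin d → K := fun j l => op K (tp (Fm f) (Gm g s) 0 j) (Pi.single (b₁ l) 1)
    have hsK : algebraMap R K s ≠ 0 := fun h => hs (IsFractionRing.injective R K (h.trans (map_zero _).symm))
    have hFinj : ∀ j, Function.Injective (op K (Fm f j) : Module.End K (Fin d → K)) :=
      fun j => injective_F (LH K) hsK j
    choose v hv hvsp using fun j : Fin (n + 1) => exists_compl_of_span
      (le_top : span K (Set.range (w j.1)) ≤ ⊤) (Set.range fun a => (Pi.single a 1 : Fin d → K))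
      (by rw [show (fun a => (Pi.single a 1 : Fin d → K)) = Pi.basisFun K (Fin d) from funext fun a => by simp]
          exact Module.Basis.span_eq _)
    have hwfin : ∀ j : ℕ, Module.finrank K (span K (Set.range (w j))) = r := by
      intro j
      induction j with
      | zero =>
        rw [show w 0 = fun l => (Pi.single (b₁ l) 1 : Fin d → K) from funext fun l => by simp [w]]
        rw [finrank_span_eq_card, Fintype.card_fin]
        have := (Pi.basisFun K (Fin d)).linearIndependent.comp b₁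
          (fun a b h => Fin.ext (by simpa [b₁] using h))
        simpa [Function.comp_def] using this
      | succ j ih =>
        rw [show w (j + 1) = op K (Fm f j) ∘ w j from funext fun l => by
          show _ = op K (Fm f j) (w j l)
          rw [op_tp_F hI, if_pos (Nat.zero_le _)], Set.range_comp, ← Submodule.map_span,
          ← (Submodule.equivMapOfInjective _ (hFinj j) _).finrank_eq, ih]
    choose a ha using hv
    have hJ' : ∀ j : Fin (n + 1), ∃ J : Fin (d - r) → Fin d, cspan K J ⊔ span K (Set.range (w j.1)) = ⊤ := fun j => by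
      have hc : Module.finrank K (⊤ : Submodule K (Fin d → K)) - Module.finrank K (span K (Set.range (w j.1))) =
          d - r := by
        rw [finrank_top, hwfin]; simp
      refine ⟨fun c => a j (finCongr hc.symm c), ?_⟩
      refine (sup_comm _ _).trans (Eq.trans ?_ (hvsp j))
      rw [cspan]
      refine congrArg (span K (Set.range (w j.1)) ⊔ span K ·) ?_
      rw [← (finCongr hc.symm).surjective.range_comp (v j)]
      exact congrArg Set.range (funext fun c => ha _ _)
    choose J hJJ using hJ'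
    obtain ⟨V, -⟩ := exists_linked_point hrd hI J w hJJ
      (fun i _ l => by
        show op K (Fm f i) (op K _ _) ∈ _
        rw [op_tp_F hI, if_pos (Nat.zero_le _)]; exact subset_span ⟨l, rfl⟩)
      (fun i _ l => by
        show op K (Gm g s i) (op K _ _) ∈ _
        rw [op_tp_G hI, if_pos (Nat.zero_le _)]; exact smul_mem _ _ (subset_span ⟨l, rfl⟩))
    exact ⟨pnt ((e (CommAlgCat.of R K)).symm V)⟩
  -- any two components coincide
  have huniq : ∀ Z₁ ∈ irreducibleComponents X.left, ∀ Z₂ ∈ irreducibleComponents X.left, Z₁ = Z₂ := by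
    intro Z₁ hZ₁ Z₂ hZ₂
    obtain ⟨ι₁, hp₁, hne₁, hZ₁'⟩ := hcomp Z₁ hZ₁
    obtain ⟨ι₂, hp₂, hne₂, hZ₂'⟩ := hcomp Z₂ hZ₂
    obtain ⟨hJ₁, hb₁⟩ := hz ι₁ hp₁ hne₁
    obtain ⟨hJ₂, hb₂⟩ := hz ι₂ hp₂ hne₂
    obtain ⟨V, hV⟩ := exists_linked_point hrd hI ι₁.J z hJ₁
      (fun i _ l => by
        show op L (Fm f i) (op L _ _) ∈ _
        rw [op_tp_F hI, if_pos (Nat.zero_le _)]; exact subset_span ⟨l, rfl⟩)
      (fun i _ l => by
        show op L (Gm g s i) (op L _ _) ∈ _
        rw [op_tp_G hI, if_pos (Nat.zero_le _)]; exact smul_mem _ _ (subset_span ⟨l, rfl⟩))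
    let x : Pt X (CommAlgCat.of R L) := (e _).symm V
    have hx : tup X e x = V.1 := by rw [tup, Equiv.apply_symm_apply]
    have h1 : pnt x ∈ crange X e hrd hI ι₁ := (pnt_mem_crange_iff hrd hI he ι₁ x).2 (by
      rw [hx]; exact mem_generic_frame u hp₁ hrd hV hJ₁ hb₁)
    have h2 : pnt x ∈ crange X e hrd hI ι₂ := (pnt_mem_crange_iff hrd hI he ι₂ x).2 (by
      rw [hx]; exact mem_generic_frame u hp₂ hrd hV hJ₂ hb₂)
    exact component_eq_of_mem hrd hI he hZ₁ ⟨_, hZ₁'.ge (subset_closure h1), h2⟩ |>.trans hZ₂'.symm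
  obtain ⟨x₀⟩ := hne
  have huniv : irreducibleComponent x₀ = Set.univ := Set.eq_univ_of_forall fun y =>
    huniq _ (irreducibleComponent_mem_irreducibleComponents y) _ (irreducibleComponent_mem_irreducibleComponents x₀)
      ▸ mem_irreducibleComponent
  exact (irreducibleSpace_def _).2 (show IsIrreducible (Set.univ : Set X.left) from huniv ▸ isIrreducible_irreducibleComponent)

end Domain

end GrothLib.LinkExact10
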