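import Mathlib.Algebra.Algebra.Basic
import Mathlib.Algebra.Group.Hom.Defs

/-!
# Transport along a chain of maps going both ways
-/

set_option autoImplicit false
set_option linter.all false

namespace GrothLib.LinkExact10

variable {M : Type*} [Monoid M]

/-- Composite of the forward maps from position `a` to position `j` (one unless `a < j`). -/
def up (F : ℕ → M) (a : ℕ) : ℕ → M
  | 0 => 1
  | j + 1 => if a ≤ j then F j * up F a j else 1

/-- Composite of the backward maps from position `a` to position `j` (one unless `j < a`). -/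
def down (G : ℕ → M) : ℕ → ℕ → M
  | 0, _ => 1
  | a + 1, j => if j ≤ a then down G a j * G a else 1

/-- Transport from position `a` to position `j`. -/
def tp (F G : ℕ → M) (a j : ℕ) : M := up F a j * down G a j

theorem up_eq_one (F : ℕ → M) {a : ℕ} : ∀ {j : ℕ}, j ≤ a → up F a j = 1
  | 0, _ => rfl
  | j + 1, h => by rw [up, if_neg (by omega)]

theorem down_eq_one (G : ℕ → M) {j : ℕ} : ∀ {a : ℕ}, a ≤ j → down G a j = 1
  | 0, _ => rfl
  | a + 1, h => by rw [down, if_neg (by omega)]

@[simp] theorem tp_self (F G : ℕ → M) (a : ℕ) : tp F G a a = 1 := by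
  rw [tp, up_eq_one F le_rfl, down_eq_one G le_rfl, one_mul]

theorem tp_succ (F G : ℕ → M) {a j : ℕ} (h : a ≤ j) : tp F G a (j + 1) = F j * tp F G a j := by
  rw [tp, tp, down_eq_one G h, down_eq_one G (by omega), mul_one, mul_one, up, if_pos h]

theorem down_succ (G : ℕ → M) {j : ℕ} : ∀ {a : ℕ}, j < a → down G a j = G j * down G a (j + 1)
  | 0, h => absurd h (by omega)
  | a + 1, h => by
    rcases Nat.lt_or_ge j a with hja | hja
    · rw [down, down, if_pos (by omega), if_pos (by omega), down_succ G hja, mul_assoc]
    · obtain rfl : j = a := by omega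
      rw [down, down, if_pos le_rfl, if_neg (by omega), down_eq_one G le_rfl, one_mul, mul_one]

theorem tp_of_lt (F G : ℕ → M) {a j : ℕ} (h : j < a) : tp F G a j = G j * tp F G a (j + 1) := by
  rw [tp, tp, up_eq_one F h.le, up_eq_one F (by omega), one_mul, one_mul, down_succ G h]

theorem tp_left_succ (F G : ℕ → M) {a : ℕ} : ∀ {j : ℕ}, a < j → tp F G a j = tp F G (a + 1) j * F a
  | 0, h => absurd h (by omega)
  | j + 1, h => by
    rcases Nat.lt_or_ge a j with haj | haj
    · rw [tp_succ F G (by omega), tp_succ F G (by omega : a + 1 ≤ j), tp_left_succ F G haj, mul_assoc]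
    · obtain rfl : a = j := by omega
      rw [tp_succ F G le_rfl, tp_self, tp_self, mul_one, one_mul]

theorem tp_left_pred (F G : ℕ → M) {a j : ℕ} (h : j ≤ a) : tp F G (a + 1) j = tp F G a j * G a := by
  rw [tp, tp, up_eq_one F h, up_eq_one F (by omega), one_mul, one_mul, down, if_pos h]

theorem map_tp {N : Type*} [Monoid N] (φ : M →* N) (F G : ℕ → M) (a j : ℕ) :
    φ (tp F G a j) = tp (fun i => φ (F i)) (fun i => φ (G i)) a j := by
  have h1 : ∀ j, φ (up F a j) = up (fun i => φ (F i)) a j := by
    intro j
    induction j with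
    | zero => exact map_one φ
    | succ j ih => rw [up, up]; split_ifs <;> simp [ih]
  have h2 : ∀ a, φ (down G a j) = down (fun i => φ (G i)) a j := by
    intro a
    induction a with
    | zero => exact map_one φ
    | succ a ih => rw [down, down]; split_ifs <;> simp [ih]
  rw [tp, tp, map_mul, h1, h2]

end GrothLib.LinkExact10
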